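import Cfsg.Agent.Lib.Involutions.BaerSuzuki
import Cfsg.Agent.Lib.Geometry.Dickson.FourGroups

/-!
Groups in which every noncyclic subgroup contains its centraliser: involution centralisers are
`2`-groups.
-/

set_option autoImplicit false
set_option linter.unusedSectionVars false
set_option linter.style.haveILetI false

namespace Cfsg.Agent.Lib.InvChar.SelfCentNoncyclic

open Subgroup Cfsg.Agent.Lib.Geometry.Dickson

variable {G : Type*} [Group G]

/-- Every noncyclic subgroup contains its centraliser. -/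
def NCC (G : Type*) [Group G] : Prop :=
  ∀ H : Subgroup G, ¬ IsCyclic ↥H → centralizer (H : Set G) ≤ H

theorem NCC.of_equiv {G' : Type*} [Group G'] (e : G ≃* G') (h : NCC G) : NCC G' := by
  intro H hH x hx
  have hK : ¬ IsCyclic ↥(H.comap e.toMonoidHom) := fun hc => hH (by
    have := H.map_comap_eq_self_of_surjective (f := e.toMonoidHom) e.surjective
    rw [← this]
    exact isCyclic_of_surjective _ (e.toMonoidHom.subgroupMap_surjective _))
  have hx' : e.symm x ∈ centralizer ((H.comap e.toMonoidHom : Subgroup G) : Set G) := by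
    intro y hy
    apply e.injective
    rw [map_mul, map_mul, e.apply_symm_apply]
    exact hx (e y) hy
  simpa using h _ hK hx'

theorem NCC.of_subgroup (h : NCC G) (S : Subgroup G) : NCC ↥S := by
  intro H hH x hx
  have hK : ¬ IsCyclic ↥(H.map S.subtype) := fun hc =>
    hH ((H.equivMapOfInjective S.subtype S.subtype_injective).isCyclic.mpr hc)
  have : (x : G) ∈ centralizer ((H.map S.subtype : Subgroup G) : Set G) := by
    rintro _ ⟨y, hy, rfl⟩
    exact congrArg Subtype.val (hx y hy)
  obtain ⟨y, hy, he⟩ := h _ hK this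
  rwa [← Subtype.ext he]

/-- An element commuting with two commuting involutions is one of their products. -/
theorem mem_four (h : NCC G) {s t : G} (hs : orderOf s = 2) (ht : orderOf t = 2) (hst : s * t = t * s)
    (hne : s ≠ t) {x : G} (hxs : x * s = s * x) (hxt : x * t = t * x) :
    x = 1 ∨ x = s ∨ x = t ∨ x = s * t := by
  obtain ⟨hs2, hs1⟩ := orderOf_eq_two_iff'.mp hs
  obtain ⟨ht2, ht1⟩ := orderOf_eq_two_iff'.mp ht
  set V := fourOf s t hs2 ht2 hst with hVdef
  have hV : IsKleinFour V := isKleinFour_fourOf hs2 ht2 hst hs1 ht1 hne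
  haveI := hV
  have hVc : ¬ IsCyclic ↥V := fun hc => by
    have := IsCyclic.exponent_eq_card (α := ↥V)
    rw [IsKleinFour.exponent_two, IsKleinFour.card_four] at this
    omega
  have hx : x ∈ centralizer (V : Set G) := by
    intro v hv
    have hv' : v = 1 ∨ v = s ∨ v = t ∨ v = s * t := hv
    rcases hv' with rfl | rfl | rfl | rfl
    · simp
    · exact hxs.symm
    · exact hxt.symm
    · rw [mul_assoc, ← hxt, ← mul_assoc, ← hxs, mul_assoc]
  exact h V hVc hx

theorem sq_one_of_mem_four (h : NCC G) {s t : G} (hs : orderOf s = 2) (ht : orderOf t = 2)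
    (hst : s * t = t * s) (hne : s ≠ t) {x : G} (hxs : x * s = s * x) (hxt : x * t = t * x) :
    x * x = 1 := by
  obtain ⟨hs2, -⟩ := orderOf_eq_two_iff'.mp hs
  obtain ⟨ht2, -⟩ := orderOf_eq_two_iff'.mp ht
  rcases mem_four h hs ht hst hne hxs hxt with rfl | rfl | rfl | rfl
  · simp
  · exact hs2
  · exact ht2
  · calc s * t * (s * t) = s * (t * s) * t := by group
      _ = s * s * (t * t) := by rw [← hst]; group
      _ = 1 := by rw [hs2, ht2, mul_one]

/-- The subgroup `⟨a⟩ ∪ ⟨a⟩ s` for an involution `s` inverting `a`. -/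
def dihOf (a s : G) (hs : s * s = 1) (hsa : s * a * s⁻¹ = a⁻¹) : Subgroup G where
  carrier := {x | ∃ i : ℤ, x = a ^ i ∨ x = a ^ i * s}
  one_mem' := ⟨0, Or.inl (by simp)⟩
  mul_mem' := by
    have key : ∀ i : ℤ, s * a ^ i = a ^ (-i) * s := by
      intro i
      have : s * a ^ i * s⁻¹ = (s * a * s⁻¹) ^ i := (conj_zpow).symm
      rw [hsa, inv_zpow, ← zpow_neg] at this
      rw [← this, inv_mul_cancel_right]
    rintro x y ⟨i, rfl | rfl⟩ ⟨j, rfl | rfl⟩
    · exact ⟨i + j, Or.inl (by rw [zpow_add])⟩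
    · exact ⟨i + j, Or.inr (by rw [zpow_add, mul_assoc])⟩
    · exact ⟨i + -j, Or.inr (by rw [mul_assoc, key, ← mul_assoc, zpow_add])⟩
    · exact ⟨i + -j, Or.inl (by
        rw [mul_assoc, ← mul_assoc s, key, mul_assoc, hs, mul_one, zpow_add])⟩
  inv_mem' := by
    have key : ∀ i : ℤ, s * a ^ i = a ^ (-i) * s := by
      intro i
      have : s * a ^ i * s⁻¹ = (s * a * s⁻¹) ^ i := (conj_zpow).symm
      rw [hsa, inv_zpow, ← zpow_neg] at this
      rw [← this, inv_mul_cancel_right]
    rintro x ⟨i, rfl | rfl⟩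
    · exact ⟨-i, Or.inl (zpow_neg a i).symm⟩
    · exact ⟨i, Or.inr (by
        rw [mul_inv_rev, inv_eq_of_mul_eq_one_right hs, ← zpow_neg, key, neg_neg])⟩

/-- No involution commuting with `t` inverts a nontrivial element of odd order commuting with `t`. -/
theorem not_inverts (h : NCC G) {s t a : G} (hs : orderOf s = 2) (ht : orderOf t = 2)
    (hst : s * t = t * s) (hne : s ≠ t) (ha : Odd (orderOf a)) (ha1 : a ≠ 1)
    (hat : a * t = t * a) (hsa : s * a * s⁻¹ = a⁻¹) : False := by
  obtain ⟨hs2, -⟩ := orderOf_eq_two_iff'.mp hs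
  set D := dihOf a s hs2 hsa with hD
  have hnc : ¬ IsCyclic ↥D := fun hc => by
    have hcomm : s * a = a * s :=
      congrArg Subtype.val ((IsCyclic.commGroup (α := ↥D)).mul_comm
        ⟨s, 0, Or.inr (by simp)⟩ ⟨a, 1, Or.inl (zpow_one a).symm⟩)
    rw [hcomm, mul_inv_cancel_right] at hsa
    have h2 : a ^ 2 = 1 := by rw [sq]; nth_rw 1 [hsa]; exact inv_mul_cancel a
    exact ha1 (orderOf_eq_one_iff.mp (Nat.Coprime.eq_one_of_dvd
      (Nat.coprime_two_right.mpr ha) (orderOf_dvd_of_pow_eq_one h2)))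
  have htc : t ∈ centralizer (D : Set G) := by
    rintro x ⟨i, rfl | rfl⟩
    · exact ((Commute.zpow_left (show Commute a t from hat) i)).eq
    · exact ((Commute.zpow_left (show Commute a t from hat) i).mul_left (show Commute s t from hst)).eq
  obtain ⟨ht2, ht1⟩ := orderOf_eq_two_iff'.mp ht
  obtain ⟨i, hi | hi⟩ := h D hnc htc
  · have h1 : orderOf (a ^ i) ∣ orderOf a := by
      apply orderOf_dvd_of_pow_eq_one
      rw [← zpow_natCast, zpow_comm, zpow_natCast, pow_orderOf_eq_one, one_zpow]
    rw [← hi, ht] at h1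
    obtain ⟨k, hk⟩ := ha
    omega
  · have hi' : a ^ i = t * s := by rw [hi, mul_assoc, hs2, mul_one]
    have h2 : (a ^ i) ^ 2 = 1 := by
      rw [hi', sq]
      calc t * s * (t * s) = t * (s * t) * s := by group
        _ = t * t * (s * s) := by rw [hst]; group
        _ = 1 := by rw [ht2, hs2, mul_one]
    have h1 : a ^ i = 1 := by
      have hd : orderOf (a ^ i) ∣ orderOf a := by
        apply orderOf_dvd_of_pow_eq_one
        rw [← zpow_natCast, zpow_comm, zpow_natCast, pow_orderOf_eq_one, one_zpow]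
      exact orderOf_eq_one_iff.mp (Nat.Coprime.eq_one_of_dvd
        (Nat.Coprime.coprime_dvd_left hd (Nat.coprime_two_right.mpr ha)) (orderOf_dvd_of_pow_eq_one h2))
    rw [hi', mul_eq_one_iff_eq_inv, inv_eq_of_mul_eq_one_right hs2] at h1
    exact hne h1.symm

end Cfsg.Agent.Lib.InvChar.SelfCentNoncyclic
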