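import Cfsg.Agent.Lib.InvChar.SelfCentNoncyclic.Invol
import Cfsg.Agent.Lib.Involutions.ZStar
import Cfsg.Agent.Lib.Involutions.QDFusion
import Cfsg.Agent.Lib.Classification.CyclicNormalAbelian
import Cfsg.Agent.S0225

/-!
Simple groups of even order in which every noncyclic subgroup contains its centraliser: the Sylow
`2`-subgroups are dihedral and equal to their involution centralisers.
-/

set_option autoImplicit false
set_option linter.unusedSectionVars false
set_option linter.style.haveILetI false

namespace Cfsg.Agent.Lib.InvChar.SelfCentNoncyclic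

open Subgroup Cfsg.Agent.Lib.Geometry.Dickson Cfsg.Agent.Lib.Involutions

variable {G : Type*} [Group G] [Finite G]

/-- A commutative `2`-group with at most one involution is cyclic. -/
theorem isCyclic_of_two {A : Type*} [Group A] [Finite A] (hc : ∀ a b : A, a * b = b * a)
    (hA : IsPGroup 2 A) (h : ∀ a b : A, orderOf a = 2 → orderOf b = 2 → a = b) : IsCyclic A := by
  classical
  haveI := Fintype.ofFinite A
  have key : ∀ k : ℕ, ((Finset.univ : Finset A).filter fun a => a ^ 2 ^ k = 1).card ≤ 2 ^ k := by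
    intro k
    induction k with
    | zero =>
      simp only [pow_zero, pow_one]
      exact Finset.card_le_one.mpr fun a ha b hb => (Finset.mem_filter.mp ha).2.trans (Finset.mem_filter.mp hb).2.symm
    | succ k ih =>
      refine le_trans (Finset.card_le_mul_card_image (f := fun a : A => a * a) _ 2 fun b _ => ?_) ?_
      · rcases Finset.eq_empty_or_nonempty (((Finset.univ : Finset A).filter fun a => a ^ 2 ^ (k + 1) = 1).filter
          fun a => a * a = b) with he | ⟨a₀, ha₀⟩
        · rw [he]; simp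
        · have ha₀' := (Finset.mem_filter.mp ha₀).2
          by_cases hex : ∃ u : A, orderOf u = 2
          · obtain ⟨u, hu⟩ := hex
            refine le_trans (Finset.card_le_card (t := {a₀, u * a₀}) fun a ha => ?_) (Finset.card_le_two)
            have ha' := (Finset.mem_filter.mp ha).2
            have e : (a * a₀⁻¹) * (a * a₀⁻¹) = 1 := by
              calc (a * a₀⁻¹) * (a * a₀⁻¹) = a * (a₀⁻¹ * a) * a₀⁻¹ := by group
                _ = a * a * (a₀⁻¹ * a₀⁻¹) := by rw [hc a₀⁻¹ a]; group
                _ = 1 := by rw [ha', ← mul_inv_rev, ha₀', mul_inv_cancel]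
            by_cases h1 : a * a₀⁻¹ = 1
            · rw [Finset.mem_insert]; exact Or.inl (mul_inv_eq_one.mp h1)
            · rw [Finset.mem_insert, Finset.mem_singleton]
              refine Or.inr ?_
              rw [← h _ u (orderOf_eq_two_iff'.mpr ⟨e, h1⟩) hu, inv_mul_cancel_right]
          · refine le_trans (Finset.card_le_card (t := {a₀}) fun a ha => ?_) (by simp)
            have ha' := (Finset.mem_filter.mp ha).2
            rw [Finset.mem_singleton]
            by_contra hne
            refine hex ⟨a * a₀⁻¹, orderOf_eq_two_iff'.mpr ⟨?_, fun h1 => hne (mul_inv_eq_one.mp h1)⟩⟩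
            calc (a * a₀⁻¹) * (a * a₀⁻¹) = a * (a₀⁻¹ * a) * a₀⁻¹ := by group
              _ = a * a * (a₀⁻¹ * a₀⁻¹) := by rw [hc a₀⁻¹ a]; group
              _ = 1 := by rw [ha', ← mul_inv_rev, ha₀', mul_inv_cancel]
      · rw [pow_succ']
        refine Nat.mul_le_mul_left 2 (le_trans (Finset.card_le_card fun b hb => ?_) ih)
        obtain ⟨a, ha, rfl⟩ := Finset.mem_image.mp hb
        rw [Finset.mem_filter] at ha ⊢
        exact ⟨Finset.mem_univ _, by rw [← sq, ← pow_mul]; exact ha.2⟩
  obtain ⟨e, he⟩ := IsPGroup.iff_card.mp hA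
  refine isCyclic_of_card_pow_eq_one_le fun n hn => ?_
  have hg : Nat.gcd n (Nat.card A) ∣ 2 ^ e := he ▸ Nat.gcd_dvd_right _ _
  obtain ⟨k, -, hk⟩ := (Nat.dvd_prime_pow Nat.prime_two).mp hg
  refine le_trans (Finset.card_le_card fun a ha => ?_)
    ((key k).trans (Nat.le_of_dvd hn (hk ▸ Nat.gcd_dvd_left _ _)))
  rw [Finset.mem_filter] at ha ⊢
  exact ⟨Finset.mem_univ _, hk ▸ orderOf_dvd_iff_pow_eq_one.mp
    (Nat.dvd_gcd (orderOf_dvd_of_pow_eq_one ha.2) (orderOf_dvd_natCard a))⟩

/-- A normal four-group in a `2`-group of the class considered bounds its order by eight. -/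
theorem dihedral_of_normal_four {S : Type*} [Group S] [Finite S] (hS : IsPGroup 2 S) (h : NCC S)
    (V : Subgroup S) [V.Normal] (hV : IsKleinFour V) :
    ∃ m : ℕ, 2 ≤ m ∧ Nonempty (S ≃* DihedralGroup m) := by
  classical
  haveI := hV
  haveI : Fact (Nat.Prime 2) := ⟨Nat.prime_two⟩
  have hVc : ¬ IsCyclic ↥V := fun hc => by
    have := IsCyclic.exponent_eq_card (α := ↥V)
    rw [IsKleinFour.exponent_two, IsKleinFour.card_four] at this
    omega
  have hcent : centralizer (V : Set S) = V :=
    le_antisymm (h V hVc) fun x hx v hv => four_comm hv hx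
  -- the action on the three involutions
  let f : S →* Equiv.Perm {v : ↥V // v ≠ 1} :=
    { toFun := fun s => ((MulAut.conjNormal s : MulAut ↥V).toEquiv).subtypeEquiv fun v => by simp
      map_one' := by ext v; simp
      map_mul' := fun a b => by ext v; simp [mul_assoc] }
  have hker : f.ker ≤ V := by
    intro s hs
    rw [← hcent]
    intro v hv
    by_cases h1 : v = 1
    · simp [h1]
    · have := congrArg (fun σ : Equiv.Perm {v : ↥V // v ≠ 1} =>
        ((σ ⟨⟨v, hv⟩, fun e => h1 (congrArg Subtype.val e)⟩).1 : S)) (MonoidHom.mem_ker.mp hs)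
      simp [f] at this
      exact (mul_inv_eq_iff_eq_mul.mp this).symm
  have h3 : Nat.card {v : ↥V // v ≠ 1} = 3 := by
    haveI := Fintype.ofFinite ↥V
    rw [Nat.card_eq_fintype_card, Fintype.card_subtype_compl, Fintype.card_subtype_eq,
      ← Nat.card_eq_fintype_card, IsKleinFour.card_four]
  have h6 : f.ker.index ∣ 6 := by
    rw [Subgroup.index_ker]
    have := f.range.card_subgroup_dvd_card
    rwa [Nat.card_perm, h3] at this
  have hidx : V.index ∣ 2 := by
    have h1 := (Subgroup.index_dvd_of_le hker).trans h6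
    obtain ⟨e, he⟩ := hS.index V
    rw [he] at h1 ⊢
    match e, h1 with
    | 0, _ => simp
    | 1, _ => simp
    | e + 2, h1 =>
      exfalso
      have : 4 ∣ 6 := (dvd_trans ⟨2 ^ e, by ring⟩ h1)
      omega
  have hcard := V.card_mul_index
  rw [IsKleinFour.card_four] at hcard
  rcases (Nat.dvd_prime Nat.prime_two).mp hidx with h1 | h2
  · have hS4 : Nat.card S = 4 := by omega
    have htop : V = ⊤ := Subgroup.index_eq_one.mp h1
    haveI : IsKleinFour S :=
      { card_four := hS4
        exponent_two := by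
          rw [← Monoid.exponent_eq_of_mulEquiv (MulEquiv.subgroupCongr htop |>.trans Subgroup.topEquiv)]
          exact IsKleinFour.exponent_two }
    exact ⟨2, le_rfl, (IsKleinFour.nonempty_mulEquiv (G₁ := S) (G₂ := DihedralGroup 2))⟩
  · have hS8 : Nat.card S = 8 := by omega
    -- an element of order four
    obtain ⟨x, hxV⟩ : ∃ x : S, x ∉ V := by
      by_contra hc
      push Not at hc
      rw [show V = ⊤ from top_le_iff.mp fun x _ => hc x, Subgroup.index_top] at h2
      omega
    have hx4 : ∃ x : S, x * x ≠ 1 := by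
      by_contra hc
      push Not at hc
      refine hxV (hcent.le fun v _ => ?_)
      calc v * x = (v * x)⁻¹ := (inv_eq_of_mul_eq_one_right (hc _)).symm
        _ = _ := by
          rw [mul_inv_rev, inv_eq_of_mul_eq_one_right (hc x), inv_eq_of_mul_eq_one_right (hc v)]
    obtain ⟨x, hx⟩ := hx4
    have hxo : orderOf x = 4 := by
      obtain ⟨j, hj, hjo⟩ := (Nat.dvd_prime_pow Nat.prime_two).mp
        (show orderOf x ∣ 2 ^ 3 by rw [show (2 : ℕ) ^ 3 = 8 from rfl, ← hS8]; exact orderOf_dvd_natCard x)
      match j, hj with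
      | 0, _ => exact absurd (orderOf_eq_one_iff.mp (hjo.trans (pow_zero 2))) (fun e => hx (by rw [e, mul_one]))
      | 1, _ => exact absurd (by rw [← sq, ← pow_one 2, ← hjo, pow_orderOf_eq_one]) hx
      | 2, _ => exact hjo
      | 3, _ =>
        exfalso
        haveI : IsCyclic S := isCyclic_of_orderOf_eq_card x (by rw [hjo, hS8]; rfl)
        exact hVc inferInstance
    obtain ⟨v, hvV, hvx⟩ : ∃ v ∈ V, v ∉ zpowers x := by
      by_contra hc
      push Not at hc
      exact hVc (Subgroup.isCyclic_of_le hc)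
    have hxi : (zpowers x).index = 2 := by
      have := (zpowers x).card_mul_index
      rw [Nat.card_zpowers, hxo, hS8] at this
      omega
    haveI : (zpowers x).Normal := Subgroup.normal_of_index_eq_two hxi
    have hv2 : v * v = 1 := four_sq hvV
    have hv1 : v ≠ 1 := fun e => hvx (e ▸ one_mem _)
    have hmem : v * x * v⁻¹ ∈ zpowers x :=
      (inferInstance : (zpowers x).Normal).conj_mem x (mem_zpowers x) v
    obtain ⟨k, hk, hk'⟩ := (mem_powers_iff_mem_zpowers.mpr hmem : v * x * v⁻¹ ∈ Submonoid.powers x)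
      |> fun ⟨n, hn⟩ => (⟨n % 4, Nat.mod_lt n (by norm_num), by
        rw [← hxo, pow_mod_orderOf]; exact hn⟩ : ∃ k, k < 4 ∧ x ^ k = v * x * v⁻¹)
    have hord : orderOf (v * x * v⁻¹) = 4 := by
      rw [← MulAut.conj_apply v x, MulEquiv.orderOf_eq, hxo]
    have hconj : v * x * v⁻¹ = x⁻¹ := by
      match k, hk with
      | 0, _ => rw [← hk', pow_zero, orderOf_one] at hord; omega
      | 2, _ =>
        rw [← hk', orderOf_pow, hxo] at hord
        norm_num at hord
      | 3, _ =>
        rw [← hk']
        exact eq_inv_of_mul_eq_one_left (by rw [← pow_succ, show 3 + 1 = orderOf x by omega]; exact pow_orderOf_eq_one x)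
      | 1, _ =>
        exfalso
        rw [pow_one] at hk'
        have hvc : v * x = x * v := (mul_inv_eq_iff_eq_mul.mp hk'.symm)
        have hz : orderOf (x * x) = 2 := orderOf_eq_two_iff'.mpr ⟨by
          rw [← pow_orderOf_eq_one x, hxo, pow_succ, pow_succ, pow_succ, pow_one, ← mul_assoc], hx⟩
        exact hx (sq_one_of_mem_four h (orderOf_eq_two_iff'.mpr ⟨hv2, hv1⟩) hz
          (by rw [← mul_assoc, hvc, mul_assoc, hvc, mul_assoc])
          (fun e => hvx (e ▸ mul_mem (mem_zpowers x) (mem_zpowers x))) hvc.symm (mul_assoc x x x).symm)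
    exact ⟨4, by norm_num, Classification.mulEquiv_dihedralGroup_of_generators (n := 4) hxo hconj
      (by rw [sq, hv2]) hvx (by rw [hS8])⟩

/-- Shape of a noncyclic `2`-group of the class considered with a four-group. -/
theorem shape {S : Type*} [Group S] [Finite S] (hS : IsPGroup 2 S) (h : NCC S)
    {s t : S} (hs : orderOf s = 2) (ht : orderOf t = 2) (hne : s ≠ t) :
    (∃ m : ℕ, 2 ≤ m ∧ Nonempty (S ≃* DihedralGroup m)) ∨ Cfsg.IsQuasiDihedral S := by
  classical
  haveI : Fact (Nat.Prime 2) := ⟨Nat.prime_two⟩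
  by_cases hcyc : ∀ B : Subgroup S, B.Normal → IsMulCommutative B → IsCyclic B
  · have hnc : ¬ IsCyclic S := fun hc => by
      haveI := hc
      haveI := Fintype.ofFinite S
      have h3 := IsCyclic.card_pow_eq_one_le (α := S) (n := 2) (by norm_num)
      have h4 : ({1, s, t} : Finset S) ⊆ Finset.univ.filter fun a => a ^ 2 = 1 := by
        intro a ha
        simp only [Finset.mem_insert, Finset.mem_singleton] at ha
        rw [Finset.mem_filter]
        refine ⟨Finset.mem_univ _, ?_⟩
        rcases ha with rfl | rfl | rfl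
        · simp
        · rw [← hs, pow_orderOf_eq_one]
        · rw [← ht, pow_orderOf_eq_one]
      have h5 := (Finset.card_le_card h4).trans h3
      rw [Finset.card_insert_of_notMem, Finset.card_pair hne] at h5
      · omega
      · simp only [Finset.mem_insert, Finset.mem_singleton]
        rintro (e | e)
        · exact (orderOf_eq_two_iff'.mp hs).2 e.symm
        · exact (orderOf_eq_two_iff'.mp ht).2 e.symm
    obtain ⟨-, hq | ⟨m, hm, hd⟩ | hsd⟩ :=
      Cfsg.Agent.Lib.Classification.classification_of_cyclic_normal_abelian hS hcyc hnc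
    · exfalso
      obtain ⟨m, ⟨e⟩⟩ := hq
      have hm0 : m ≠ 0 := by
        rintro rfl
        haveI : Finite (QuaternionGroup 0) := Finite.of_equiv S e.toEquiv
        haveI : Finite (ZMod (2 * 0)) := Finite.of_injective QuaternionGroup.a fun a b hab => by simpa using hab
        haveI : Finite ℤ := ‹Finite (ZMod (2 * 0))›
        exact not_finite ℤ
      haveI : NeZero m := ⟨hm0⟩
      have huniq : ∀ q : QuaternionGroup m, orderOf q = 2 → ∃ a : ZMod (2 * m), q = .a a ∧ a + a = 0 ∧ a ≠ 0 := by
        rintro (a | a) hq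
        · refine ⟨a, rfl, ?_, ?_⟩
          · have := (orderOf_eq_two_iff'.mp hq).1
            rw [QuaternionGroup.a_mul_a, QuaternionGroup.one_def] at this
            exact QuaternionGroup.a.inj this
          · rintro rfl
            exact (orderOf_eq_two_iff'.mp hq).2 QuaternionGroup.a_zero
        · rw [QuaternionGroup.orderOf_xa] at hq
          omega
      obtain ⟨a, ha, ha2, ha0⟩ := huniq (e s) (by rw [MulEquiv.orderOf_eq, hs])
      obtain ⟨b, hb, hb2, hb0⟩ := huniq (e t) (by rw [MulEquiv.orderOf_eq, ht])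
      haveI : NeZero (2 * m) := ⟨by omega⟩
      exact hne (e.injective (by rw [ha, hb, zmod_two_torsion_unique ha2 ha0 hb2 hb0]))
    · exact Or.inl ⟨m, by omega, hd⟩
    · exact Or.inr hsd
  · push Not at hcyc
    obtain ⟨A, hAn, hAc, hA⟩ := hcyc
    haveI := hAn
    have hcomm : ∀ a ∈ A, ∀ b ∈ A, a * b = b * a := fun a ha b hb =>
      congrArg Subtype.val (hAc.is_comm.comm ⟨a, ha⟩ ⟨b, hb⟩)
    have hex : ∃ a b : ↥A, orderOf a = 2 ∧ orderOf b = 2 ∧ a ≠ b := by
      by_contra hc
      push Not at hc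
      exact hA (isCyclic_of_two (fun a b => Subtype.ext (hcomm a a.2 b b.2)) (hS.to_subgroup A) hc)
    obtain ⟨a, b, ha, hb, hab⟩ := hex
    rw [← Subgroup.orderOf_coe] at ha hb
    have hab' : (a : S) ≠ b := fun e => hab (Subtype.ext e)
    obtain ⟨ha2, ha1⟩ := orderOf_eq_two_iff'.mp ha
    obtain ⟨hb2, hb1⟩ := orderOf_eq_two_iff'.mp hb
    have hK := isKleinFour_fourOf ha2 hb2 (hcomm a a.2 b b.2) ha1 hb1 hab'
    have hAV : fourOf (a : S) b ha2 hb2 (hcomm a a.2 b b.2) = A := by
      refine le_antisymm ?_ fun x hx => mem_four h ha hb (hcomm a a.2 b b.2) hab'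
        (hcomm x hx a a.2) (hcomm x hx b b.2)
      intro v hv
      rcases (hv : v = 1 ∨ v = (a : S) ∨ v = b ∨ v = a * b) with rfl | rfl | rfl | rfl
      · exact A.one_mem
      · exact a.2
      · exact b.2
      · exact A.mul_mem a.2 b.2
    exact Or.inl (dihedral_of_normal_four hS h A (hAV ▸ hK))

/-- The Sylow `2`-subgroups are dihedral and are involution centralisers. -/
theorem sylow_dihedral [IsSimpleGroup G] (hna : ¬ IsMulCommutative G) (heven : Even (Nat.card G))
    (h : NCC G) : ∃ (S : Sylow 2 G) (m : ℕ) (t : G), 2 ≤ m ∧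
      Nonempty ((S : Subgroup G) ≃* DihedralGroup m) ∧ orderOf t = 2 ∧ t ∈ (S : Subgroup G) ∧
      centralizer ({t} : Set G) = (S : Subgroup G) := by
  classical
  haveI : Fact (Nat.Prime 2) := ⟨Nat.prime_two⟩
  obtain ⟨V, hV⟩ : ∃ V : Subgroup G, IsKleinFour V := by
    by_contra hc
    push Not at hc
    obtain ⟨z, hz, N, hN, hNodd, hzN⟩ := Cfsg.Agent.S0225.result heven hc
    have hNb : N = ⊥ := by
      rcases hN.eq_bot_or_eq_top with e | e
      · exact e
      · rw [e, Subgroup.card_top] at hNodd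
        exact absurd heven (Nat.not_even_iff_odd.mpr hNodd)
    have hzc : z ∈ center G := by
      rw [mem_center_iff]
      intro g
      have := hzN g
      rw [hNb, Subgroup.mem_bot, mul_inv_eq_one, mul_inv_eq_iff_eq_mul] at this
      exact this.symm
    rcases (inferInstance : (center G).Normal).eq_bot_or_eq_top with e | e
    · rw [e, Subgroup.mem_bot] at hzc
      rw [hzc, orderOf_one] at hz
      omega
    · exact hna ⟨⟨fun a b => (mem_center_iff.mp (e ▸ mem_top a) b).symm⟩⟩
  haveI := hV
  have hVp : IsPGroup 2 V := IsPGroup.of_card (n := 2) (by rw [IsKleinFour.card_four]; rfl)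
  obtain ⟨S, hVS⟩ := hVp.exists_le_sylow
  haveI : Nontrivial (S : Subgroup G) := by
    haveI : Nontrivial V := Finite.one_lt_card_iff_nontrivial.mp (by rw [IsKleinFour.card_four]; norm_num)
    exact (Subgroup.inclusion_injective hVS).nontrivial
  haveI : Nontrivial (center (S : Subgroup G)) := S.2.center_nontrivial
  obtain ⟨⟨z, hzc⟩, hz⟩ := exists_prime_orderOf_dvd_card' 2 (by
    obtain ⟨n, hn⟩ := IsPGroup.iff_card.mp (S.2.to_subgroup (center (S : Subgroup G)))
    have := Finite.one_lt_card (α := center (S : Subgroup G))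
    rcases n with _ | n
    · rw [hn, pow_zero] at this; omega
    · exact hn ▸ dvd_pow_self 2 n.succ_ne_zero)
  rw [← Subgroup.orderOf_coe] at hz
  change orderOf z = 2 at hz
  set t : G := (z : G) with ht'
  have ht : orderOf t = 2 := by rw [ht', Subgroup.orderOf_coe, hz]
  have hSC : (S : Subgroup G) ≤ centralizer ({t} : Set G) := fun x hx =>
    mem_centralizer_singleton_iff.mpr (congrArg Subtype.val (mem_center_iff.mp hzc ⟨x, hx⟩))
  obtain ⟨s, hsV, hs1, hst⟩ : ∃ s ∈ V, s ≠ 1 ∧ s ≠ t := by
    by_contra hc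
    push Not at hc
    have hsub : (V : Set G) ⊆ {1, t} := fun x hx => by
      by_cases h1 : x = 1
      · exact Or.inl h1
      · exact Or.inr (hc x hx h1)
    have := Set.ncard_le_ncard hsub
    rw [← Nat.card_coe_set_eq] at this
    have h2 : ({1, t} : Set G).ncard ≤ 2 := (Set.ncard_insert_le _ _).trans (by simp)
    have h4 : Nat.card ↥V = 4 := IsKleinFour.card_four
    simp only [SetLike.coe_sort_coe] at this
    omega
  have hs : orderOf s = 2 := orderOf_eq_two_iff'.mpr ⟨four_sq hsV, hs1⟩
  have hCS : centralizer ({t} : Set G) = (S : Subgroup G) :=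
    S.3 (isPGroup_centralizer h ht hs (mem_centralizer_singleton_iff.mp (hSC (hVS hsV))) hst) hSC
  have hsS : orderOf (⟨s, hVS hsV⟩ : ↥(S : Subgroup G)) = 2 := by rw [Subgroup.orderOf_mk, hs]
  rcases shape S.2 (h.of_subgroup _) hsS hz (fun e => hst (congrArg Subtype.val e)) with ⟨m, hm, hd⟩ | hsd
  · exact ⟨S, m, t, hm, hd, ht, z.2, hCS⟩
  exfalso
  obtain ⟨x, y, n, hq⟩ := exists_qdGen hsd
  have hzeq : x ^ ((2 : ℤ) ^ (n - 1)) = z := by
    rcases hq.invol_cases hz with e | ⟨e, he, hye⟩
    · exact e.symm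
    · exfalso
      -- the centre contains no element outside the cyclic subgroup
      have hcen : x ^ e * y ∈ center ↥(S : Subgroup G) := hye ▸ hzc
      have hcx := mem_center_iff.mp hcen (x ^ (1 : ℤ))
      rw [hq.mul_xy, hq.mul_yx, mul_left_inj, hq.pow_eq_iff, mul_one] at hcx
      have h4 : (4 : ℤ) ∣ (qdExp n - 1) := by
        have h4' : (4 : ℤ) ∣ 2 ^ n := four_dvd_two_pow (by have := hq.hn; omega)
        have h5 := h4'.trans hcx
        have : qdExp n - 1 = -((1 + e) - (e + qdExp n)) := by ring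
        rw [this]; exact h5.neg_right
      rw [hq.qdExp_sub_one] at h4
      have hodd := hq.odd_c
      obtain ⟨c, hc⟩ := h4
      obtain ⟨d, hd⟩ := hodd
      omega
  by_cases hf : QDFusion.FourFused S hq
  · obtain ⟨g, hg⟩ := isConj_iff.mp hf
    set a := x ^ ((2 : ℤ) ^ (n - 2)) with hadef
    set b := x ^ (1 : ℤ) * y with hbdef
    have ha2 : (a : G) * a = t := by rw [ht', ← hzeq, ← hq.a_sq]; rfl
    have hb2 : (b : G) * b = t := by
      rw [ht', ← hzeq, ← hq.sq_y_odd (i := 1) odd_one, hbdef]; rfl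
    have hgS : g ∈ (S : Subgroup G) := by
      rw [← hCS]
      refine mem_centralizer_singleton_iff.mpr (mul_inv_eq_iff_eq_mul.mp ?_)
      rw [← ha2]
      calc g * ((a : G) * a) * g⁻¹ = g * a * g⁻¹ * (g * a * g⁻¹) := by group
        _ = _ := by rw [hg, hb2, ha2]
    haveI : (hq.halfSub 0).Normal := Subgroup.normal_of_index_eq_two (hq.index_halfSub 0)
    have hmem : (⟨g, hgS⟩ : ↥(S : Subgroup G)) * a * (⟨g, hgS⟩ : ↥(S : Subgroup G))⁻¹ ∈ hq.halfSub 0 := by
      refine (inferInstance : (hq.halfSub 0).Normal).conj_mem a ?_ _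
      rw [hadef, hq.zpow_mem_halfSub_iff]
      exact ⟨2 ^ (n - 3), by
        rw [← two_mul, ← pow_succ']; congr 1; have := hq.hn; omega⟩
    rw [show (⟨g, hgS⟩ : ↥(S : Subgroup G)) * a * (⟨g, hgS⟩ : ↥(S : Subgroup G))⁻¹ = b from Subtype.ext hg,
      hbdef, hq.zpow_y_mem_halfSub_iff] at hmem
    exact absurd hmem (by decide)
  · obtain ⟨K, hK, hK2, -⟩ := QDFusion.exists_index_two_zero S hq hf
    rcases hK.eq_bot_or_eq_top with e | e
    · rw [e, Subgroup.index_bot] at hK2
      haveI := isCyclic_of_prime_card hK2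
      exact hna ⟨⟨fun a b => (IsCyclic.commGroup (α := G)).mul_comm a b⟩⟩
    · rw [e, Subgroup.index_top] at hK2
      omega

end Cfsg.Agent.Lib.InvChar.SelfCentNoncyclic
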