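import Cfsg.Agent.Lib.InvChar.SelfCentNoncyclic.Basic

/-!
Involution centralisers in groups where every noncyclic subgroup contains its centraliser.
-/

set_option autoImplicit false
set_option linter.unusedSectionVars false
set_option linter.style.haveILetI false

namespace Cfsg.Agent.Lib.InvChar.SelfCentNoncyclic

open Subgroup Cfsg.Agent.Lib.Geometry.Dickson

variable {G : Type*} [Group G] [Finite G]

/-- The odd part of a nontrivial non-`2`-element. -/
theorem exists_odd_pow {X : Type*} [Group X] [Finite X] (r : X) (h : ¬ IsPGroup 2 ↥(zpowers r)) :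
    ∃ k : ℕ, r ^ k ≠ 1 ∧ Odd (orderOf (r ^ k)) := by
  obtain ⟨e, m, hm, he⟩ := Nat.exists_eq_two_pow_mul_odd (orderOf_pos r).ne'
  refine ⟨2 ^ e, fun h1 => h ?_, ?_⟩
  · obtain ⟨j, -, hj⟩ := (Nat.dvd_prime_pow Nat.prime_two).mp (orderOf_dvd_of_pow_eq_one h1)
    exact IsPGroup.of_card (n := j) (by rw [Nat.card_zpowers, hj])
  · rw [orderOf_pow, he, Nat.gcd_eq_right (Dvd.intro m rfl), Nat.mul_div_cancel_left m (by positivity)]
    exact hm

/-- Two conjugate involutions of `C(t)` generate a `2`-group. -/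
theorem isPGroup_pair (h : NCC G) {t : G} (ht : orderOf t = 2)
    {s s' : ↥(centralizer ({t} : Set G))} (hs : orderOf s = 2) (hs' : orderOf s' = 2)
    (hne : (s : G) ≠ t) : IsPGroup 2 ↥(zpowers s ⊔ zpowers s') := by
  haveI : Fact (Nat.Prime 2) := ⟨Nat.prime_two⟩
  obtain ⟨hs2, -⟩ := orderOf_eq_two_iff'.mp hs
  obtain ⟨hs2', -⟩ := orderOf_eq_two_iff'.mp hs'
  set r := s * s' with hr
  have hinv : s * r * s⁻¹ = r⁻¹ := by
    rw [hr, mul_inv_rev, inv_eq_of_mul_eq_one_right hs2, inv_eq_of_mul_eq_one_right hs2']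
    rw [← mul_assoc, hs2, one_mul]
  have h2 : IsPGroup 2 ↥(zpowers r) := by
    by_contra hc
    obtain ⟨k, hk1, hko⟩ := exists_odd_pow r hc
    have hsG : orderOf (s : G) = 2 := by rw [Subgroup.orderOf_coe, hs]
    refine not_inverts h hsG ht (mem_centralizer_singleton_iff.mp s.2) hne
      (a := ((r ^ k : ↥(centralizer ({t} : Set G))) : G)) (by rwa [Subgroup.orderOf_coe])
      (fun h1 => hk1 (Subtype.ext h1)) (mem_centralizer_singleton_iff.mp (r ^ k).2) ?_
    have : s * r ^ k * s⁻¹ = (r ^ k)⁻¹ := by rw [← conj_pow, hinv, inv_pow]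
    exact congrArg Subtype.val this
  set D := dihOf r s hs2 hinv with hD
  refine IsPGroup.to_le (K := D) ?_ (sup_le ?_ ?_)
  · intro x
    obtain ⟨i, hi | hi⟩ := x.2
    · obtain ⟨j, hj⟩ := h2 ⟨(x : ↥(centralizer ({t} : Set G))), hi ▸ Subgroup.mem_zpowers_iff.mpr ⟨i, rfl⟩⟩
      exact ⟨j, Subtype.ext (by simpa using congrArg Subtype.val hj)⟩
    · refine ⟨1, Subtype.ext ?_⟩
      simp only [pow_one, SubmonoidClass.coe_pow, OneMemClass.coe_one]
      rw [hi, sq, mul_assoc, ← mul_assoc s]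
      have : s * r ^ i = r ^ (-i) * s := by
        have h' : s * r ^ i * s⁻¹ = (s * r * s⁻¹) ^ i := (conj_zpow).symm
        rw [hinv, inv_zpow, ← zpow_neg] at h'
        rw [← h', inv_mul_cancel_right]
      rw [this, mul_assoc (r ^ (-i)), hs2, mul_one, ← zpow_add, add_neg_cancel, zpow_zero]
  · rw [zpowers_le]; exact ⟨0, Or.inr (by simp)⟩
  · rw [zpowers_le]
    exact ⟨-1, Or.inr (by
      rw [zpow_neg_one, hr, mul_inv_rev, inv_eq_of_mul_eq_one_right hs2,
        inv_eq_of_mul_eq_one_right hs2', mul_assoc, hs2, mul_one])⟩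

/-- An involution other than `t` in `C(t)` lies in a normal `2`-subgroup of `C(t)`. -/
theorem exists_normal_two (h : NCC G) {t : G} (ht : orderOf t = 2)
    {s : ↥(centralizer ({t} : Set G))} (hs : orderOf s = 2) (hne : (s : G) ≠ t) :
    ∃ N : Subgroup ↥(centralizer ({t} : Set G)), N.Normal ∧ IsPGroup 2 ↥N ∧ s ∈ N := by
  haveI : Fact (Nat.Prime 2) := ⟨Nat.prime_two⟩
  obtain ⟨N, h1, h2, h3⟩ := Cfsg.Agent.Lib.Involutions.baer_suzuki (p := 2) (zpowers s)
    (IsPGroup.of_card (n := 1) (by rw [Nat.card_zpowers, hs, pow_one])) fun g => by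
      rw [MonoidHom.map_zpowers]
      refine isPGroup_pair h ht hs ?_ hne
      rw [MulEquiv.coe_toMonoidHom, MulEquiv.orderOf_eq, hs]
  exact ⟨N, h1, h2, h3 (mem_zpowers s)⟩

variable (h : NCC G)
include h

/-- A group with an involution central modulo a `2`-group: the centraliser of an involution which
lies in a four-group is a `2`-group. -/
theorem isPGroup_centralizer {t : G} (ht : orderOf t = 2) {s₀ : G} (hs₀ : orderOf s₀ = 2)
    (hst₀ : s₀ * t = t * s₀) (hne₀ : s₀ ≠ t) : IsPGroup 2 ↥(centralizer ({t} : Set G)) := by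
  classical
  haveI : Fact (Nat.Prime 2) := ⟨Nat.prime_two⟩
  set C := centralizer ({t} : Set G) with hCdef
  have hstC : s₀ ∈ C := mem_centralizer_singleton_iff.mpr hst₀
  have htC : t ∈ C := mem_centralizer_singleton_iff.mpr rfl
  set sC : ↥C := ⟨s₀, hstC⟩
  set tC : ↥C := ⟨t, htC⟩ with htCdef
  have htcomm : ∀ x : ↥C, x * tC = tC * x := fun x => Subtype.ext (mem_centralizer_singleton_iff.mp x.2)
  obtain ⟨N, hN, hN2, hsN⟩ := exists_normal_two h ht (s := sC) (by rw [Subgroup.orderOf_mk, hs₀]) hne₀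
  haveI := hN
  haveI hTn : (zpowers tC).Normal := ⟨fun n hn g => by
    obtain ⟨i, rfl⟩ := mem_zpowers_iff.mp hn
    rw [← conj_zpow, htcomm g, mul_inv_cancel_right]
    exact ⟨i, rfl⟩⟩
  set W := N ⊔ zpowers tC with hWdef
  have hW2 : IsPGroup 2 ↥W := hN2.to_sup_of_normal_right
    (IsPGroup.of_card (n := 1) (by rw [Nat.card_zpowers, Subgroup.orderOf_mk, ht, pow_one]))
  have htW : tC ∈ W := mem_sup_right (mem_zpowers tC)
  haveI : W.Normal := Subgroup.sup_normal N (zpowers tC)
  rw [isPGroup_iff_primeFactors_card_subset two_ne_zero, Nat.prime_two.primeFactors]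
  intro r hr
  rw [Nat.mem_primeFactors] at hr
  obtain ⟨hrp, hrd, -⟩ := hr
  by_contra hr2
  simp only [Finset.mem_singleton] at hr2
  haveI : Fact r.Prime := ⟨hrp⟩
  obtain ⟨a, ha⟩ := exists_prime_orderOf_dvd_card' r hrd
  -- the involutions of `W` other than `t`
  let Ω := {x : ↥C // x ∈ W ∧ orderOf x = 2 ∧ (x : G) ≠ t}
  letI : MulAction ↥C Ω :=
    { smul := fun c x => ⟨c * x.1 * c⁻¹, (inferInstance : W.Normal).conj_mem _ x.2.1 c,
        by rw [← MulAut.conj_apply c x.1, MulEquiv.orderOf_eq]; exact x.2.2.1,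
        fun he => x.2.2.2 (by
          have e1 : c * x.1 * c⁻¹ = tC := Subtype.ext he
          have e2 : x.1 = c⁻¹ * tC * c := by rw [← e1]; group
          rw [e2, mul_assoc, ← htcomm, inv_mul_cancel_left])⟩
      one_smul := fun x => Subtype.ext (show (1 : ↥C) * x.1 * 1⁻¹ = x.1 by group)
      mul_smul := fun c d x => Subtype.ext
        (show c * d * x.1 * (c * d)⁻¹ = c * (d * x.1 * d⁻¹) * c⁻¹ by group) }
  have hfix : ∀ (c : ↥C) (x : Ω), c • x = x → c * c = 1 := by
    intro c x hc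
    have e : c * x.1 * c⁻¹ = x.1 := congrArg Subtype.val hc
    rw [mul_inv_eq_iff_eq_mul] at e
    exact Subtype.ext (sq_one_of_mem_four h (by rw [Subgroup.orderOf_coe, x.2.2.1]) ht
      (mem_centralizer_singleton_iff.mp x.1.2) x.2.2.2 (congrArg Subtype.val e)
      (mem_centralizer_singleton_iff.mp c.2))
  have hra : IsPGroup r ↥(zpowers a) := IsPGroup.of_card (n := 1) (by rw [Nat.card_zpowers, ha, pow_one])
  have hfix0 : Nat.card (MulAction.fixedPoints ↥(zpowers a) Ω) = 0 := by
    rw [Nat.card_eq_zero]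
    refine Or.inl ⟨fun x => ?_⟩
    have h2 := hfix a x.1 (x.2 ⟨a, mem_zpowers a⟩)
    have : r ∣ 2 := ha ▸ orderOf_dvd_of_pow_eq_one (by rw [sq, h2])
    exact hr2 ((Nat.prime_dvd_prime_iff_eq hrp Nat.prime_two).mp this)
  have hmod := hra.card_modEq_card_fixedPoints Ω
  rw [hfix0] at hmod
  have hrΩ : r ∣ Nat.card Ω := Nat.modEq_zero_iff_dvd.mp hmod
  -- orbits of `W`
  set x₀ : Ω := ⟨sC, mem_sup_left hsN, by rw [Subgroup.orderOf_mk, hs₀], hne₀⟩
  have hstab : ∀ x : Ω, Nat.card (MulAction.stabilizer ↥W x) = 4 := by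
    intro x
    obtain ⟨hx2, hx1⟩ := orderOf_eq_two_iff'.mp x.2.2.1
    obtain ⟨ht2, ht1⟩ := orderOf_eq_two_iff'.mp (show orderOf tC = 2 by rw [Subgroup.orderOf_mk, ht])
    have hxt : x.1 ≠ tC := fun e => x.2.2.2 (congrArg Subtype.val e)
    set V := fourOf x.1 tC hx2 ht2 (htcomm x.1) with hV
    have hVW : V ≤ W := by
      intro v hv
      rcases (hv : v = 1 ∨ v = x.1 ∨ v = tC ∨ v = x.1 * tC) with rfl | rfl | rfl | rfl
      · exact W.one_mem
      · exact x.2.1
      · exact htW
      · exact W.mul_mem x.2.1 htW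
    haveI := isKleinFour_fourOf hx2 ht2 (htcomm x.1) hx1 ht1 hxt
    have hst : MulAction.stabilizer ↥W x = V.subgroupOf W := by
      ext c
      rw [MulAction.mem_stabilizer_iff, mem_subgroupOf]
      constructor
      · intro hc
        have e : (c : ↥C) * x.1 * (c : ↥C)⁻¹ = x.1 := congrArg Subtype.val hc
        rw [mul_inv_eq_iff_eq_mul] at e
        have := mem_four h (by rw [Subgroup.orderOf_coe, x.2.2.1]) ht
          (mem_centralizer_singleton_iff.mp x.1.2) x.2.2.2 (congrArg Subtype.val e)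
          (mem_centralizer_singleton_iff.mp (c : ↥C).2)
        rcases this with h' | h' | h' | h'
        · exact Or.inl (Subtype.ext h')
        · exact Or.inr (Or.inl (Subtype.ext h'))
        · exact Or.inr (Or.inr (Or.inl (Subtype.ext h')))
        · exact Or.inr (Or.inr (Or.inr (Subtype.ext h')))
      · intro hc
        refine Subtype.ext ?_
        show (c : ↥C) * x.1 * (c : ↥C)⁻¹ = x.1
        have : x.1 ∈ V := Or.inr (Or.inl rfl)
        rw [four_comm hc this, mul_inv_cancel_right]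
    rw [hst, Nat.card_congr (subgroupOfEquivOfLe hVW).toEquiv, IsKleinFour.card_four]
  obtain ⟨e, he⟩ := IsPGroup.iff_card.mp hW2
  have h4 : 4 ∣ Nat.card W := hstab x₀ ▸ card_subgroup_dvd_card _
  obtain ⟨m, hm⟩ := h4
  have hmΩ : m ∣ Nat.card Ω := by
    haveI := Fintype.ofFinite (MulAction.orbitRel.Quotient ↥W Ω)
    rw [Nat.card_congr (MulAction.selfEquivSigmaOrbits ↥W Ω), Nat.card_sigma]
    refine Finset.dvd_sum fun ω _ => dvd_of_eq ?_
    have h1 := MulAction.index_stabilizer ↥W ω.out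
    rw [Nat.card_coe_set_eq, ← h1]
    have h2 := (MulAction.stabilizer ↥W ω.out).card_mul_index
    rw [hstab, hm] at h2
    omega
  have hmr : Nat.Coprime m r := by
    obtain ⟨j, -, rfl⟩ := (Nat.dvd_prime_pow Nat.prime_two).mp (show m ∣ 2 ^ e from he ▸ hm ▸ dvd_mul_left m 4)
    exact Nat.Coprime.pow_left _ ((Nat.coprime_primes Nat.prime_two hrp).mpr (Ne.symm hr2))
  obtain ⟨c, hc⟩ := hmr.mul_dvd_of_dvd_of_dvd hmΩ hrΩ
  have hΩpos : 0 < Nat.card Ω := Nat.card_pos_iff.mpr ⟨⟨x₀⟩, inferInstance⟩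
  have hr3 : 3 ≤ r := by have := hrp.two_le; omega
  have h3m : 3 * m ≤ Nat.card Ω := by
    have hc0 : 1 ≤ c := by
      rcases Nat.eq_zero_or_pos c with rfl | hc'
      · simp at hc; omega
      · exact hc'
    calc 3 * m = m * 3 * 1 := by ring
      _ ≤ m * r * c := Nat.mul_le_mul (Nat.mul_le_mul_left m hr3) hc0
      _ = _ := hc.symm
  -- the elements `g` with `g² = 1` in `W`
  haveI := Fintype.ofFinite ↥W
  set J := (Finset.univ : Finset ↥W).filter fun g => g * g = 1 with hJ
  have hJc : 3 * m + 2 ≤ J.card := by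
    classical
    haveI := Fintype.ofFinite Ω
    let g : Ω → ↥W := fun x => ⟨x.1, x.2.1⟩
    have hg : Function.Injective g := fun x y e => Subtype.ext (congrArg (fun z : ↥W => (z : ↥C)) e)
    set T : ↥W := ⟨tC, htW⟩ with hT
    have hT1 : T ≠ 1 := fun e => (orderOf_eq_two_iff'.mp ht).2
      (congrArg (fun z : ↥W => ((z : ↥C) : G)) e)
    have hTn : T ∉ (Finset.univ.image g) := by
      intro hm
      obtain ⟨x, -, e⟩ := Finset.mem_image.mp hm
      exact x.2.2.2 (congrArg (fun z : ↥W => ((z : ↥C) : G)) e)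
    have h1n : (1 : ↥W) ∉ insert T (Finset.univ.image g) := by
      intro hm
      rcases Finset.mem_insert.mp hm with e | e
      · exact hT1 e.symm
      · obtain ⟨x, -, e⟩ := Finset.mem_image.mp e
        exact (orderOf_eq_two_iff'.mp x.2.2.1).2 (congrArg (fun z : ↥W => (z : ↥C)) e)
    have hsubJ : insert (1 : ↥W) (insert T (Finset.univ.image g)) ⊆ J := by
      intro z hz
      rw [hJ, Finset.mem_filter]
      refine ⟨Finset.mem_univ _, ?_⟩
      rcases Finset.mem_insert.mp hz with rfl | hz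
      · exact one_mul 1
      rcases Finset.mem_insert.mp hz with rfl | hz
      · exact Subtype.ext (Subtype.ext (orderOf_eq_two_iff'.mp ht).1)
      · obtain ⟨x, -, rfl⟩ := Finset.mem_image.mp hz
        exact Subtype.ext (orderOf_eq_two_iff'.mp x.2.2.1).1
    have := Finset.card_le_card hsubJ
    rw [Finset.card_insert_of_notMem h1n, Finset.card_insert_of_notMem hTn,
      Finset.card_image_of_injective _ hg, Finset.card_univ, ← Nat.card_eq_fintype_card] at this
    omega
  set w : ↥W := ⟨sC, mem_sup_left hsN⟩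
  have hw2 : w * w = 1 := Subtype.ext (Subtype.ext (orderOf_eq_two_iff'.mp hs₀).1)
  have hsub : J ∩ J.image (w * ·) ⊆
      (Finset.univ : Finset ↥W).filter fun g => g ∈ MulAction.stabilizer ↥W x₀ := by
    intro g hg
    rw [Finset.mem_inter, hJ, Finset.mem_image] at hg
    simp only [Finset.mem_filter, Finset.mem_univ, true_and] at hg ⊢
    obtain ⟨hg2, g', hg', rfl⟩ := hg
    rw [MulAction.mem_stabilizer_iff]
    have e : w * g' = g' * w := by
      calc w * g' = w * g' * (g' * g') := by rw [hg', mul_one]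
        _ = w * (g' * g') * g' := by group
        _ = _ := by
          rw [hg', mul_one]
          calc w * g' = (w * g')⁻¹ := (inv_eq_of_mul_eq_one_right hg2).symm
            _ = g' * w := by
              rw [mul_inv_rev, inv_eq_of_mul_eq_one_right hg', inv_eq_of_mul_eq_one_right hw2]
    refine Subtype.ext ?_
    show ((w * g' : ↥W) : ↥C) * sC * ((w * g' : ↥W) : ↥C)⁻¹ = sC
    have e' : (w * g') * w * (w * g')⁻¹ = w := by
      rw [mul_assoc w g' w, ← e, ← mul_assoc, hw2, one_mul, mul_inv_rev,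
        inv_eq_of_mul_eq_one_right hw2, inv_eq_of_mul_eq_one_right hg', ← mul_assoc, hg', one_mul]
    exact congrArg (Subtype.val) e'
  have h4' := Finset.card_le_card hsub
  rw [← Fintype.card_subtype] at h4'
  have hs4 : Fintype.card {g : ↥W // g ∈ MulAction.stabilizer ↥W x₀} = 4 := by
    rw [← Nat.card_eq_fintype_card]; exact hstab x₀
  have hu := Finset.card_union_add_card_inter J (J.image (w * ·))
  have hle : (J ∪ J.image (w * ·)).card ≤ Nat.card W := by
    rw [Nat.card_eq_fintype_card]; exact Finset.card_le_univ _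
  have hmpos : 0 < m := by
    have := (Nat.card_pos : 0 < Nat.card W)
    omega
  have himg : (J.image (w * ·)).card = J.card := Finset.card_image_of_injective _ (mul_right_injective w)
  omega

end Cfsg.Agent.Lib.InvChar.SelfCentNoncyclic
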