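import Cfsg.Agent.Lib.InvChar.SelfCentNoncyclic.Basic
import Cfsg.Agent.Lib.Transfer.Frobenius
import Cfsg.Agent.Lib.OddLocal.UniquenessPassing

/-!
A nonabelian simple group in which every noncyclic subgroup contains its centraliser has even order.
-/

set_option autoImplicit false
set_option linter.unusedSectionVars false
set_option linter.style.haveILetI false

namespace Cfsg.Agent.Lib.InvChar.SelfCentNoncyclic

open Subgroup

/-- A noncyclic group of odd prime power order in the class has order at most `p ^ 3` and centre of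
order at most `p ^ 2`. -/
theorem small_pgroup {R : Type*} [Group R] [Finite R] {p : ℕ} [hp : Fact p.Prime] (hp2 : p ≠ 2)
    (hR : IsPGroup p R) (h : NCC R) (hnc : ¬ IsCyclic R) :
    Nat.card R = p ^ 2 ∨ (Nat.card R = p ^ 3 ∧ Nat.card (center R) = p) := by
  classical
  have htop : ¬ IsCyclic ↥(⊤ : Subgroup R) := fun hc => hnc (Subgroup.topEquiv.isCyclic.mp hc)
  obtain ⟨V, -, hV, hVc⟩ := OddLocal.exists_elementary_sq_of_not_cyclic hp2 (⊤ : Subgroup R)
    (hR.to_subgroup ⊤) htop
  obtain ⟨E, hEn, hE, hEc⟩ := OddLocal.exists_normal_elementary_sq hp2 hR hV (by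
    rw [hVc, sq]; exact lt_mul_self hp.out.one_lt)
  haveI := hEn
  have hEnc : ¬ IsCyclic ↥E := fun hc => by
    haveI := hc
    obtain ⟨g, hg⟩ := IsCyclic.exists_ofOrder_eq_natCard (α := ↥E)
    have h1 : orderOf g ∣ p := orderOf_dvd_of_pow_eq_one (Subtype.ext (by simpa using hE.2 g g.2))
    rw [hg, hEc] at h1
    have := Nat.le_of_dvd hp.out.pos h1
    have := lt_mul_self hp.out.one_lt
    rw [sq] at *
    omega
  have hcomm : ∀ a ∈ E, ∀ b ∈ E, a * b = b * a := fun a ha b hb =>
    congrArg Subtype.val (hE.1.is_comm.comm ⟨a, ha⟩ ⟨b, hb⟩)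
  have hcent : centralizer (E : Set R) = E :=
    le_antisymm (h E hEnc) fun x hx v hv => hcomm v hv x hx
  -- conjugation by elements of `R` on `E`
  let f : R →* MulAut ↥E := MulAut.conjNormal
  have hker : f.ker = E := by
    ext x
    rw [MonoidHom.mem_ker, show x ∈ E ↔ x ∈ centralizer (E : Set R) by rw [hcent], mem_centralizer_iff]
    constructor
    · intro hx v hv
      have := congrArg (fun φ : MulAut ↥E => ((φ ⟨v, hv⟩ : ↥E) : R)) hx
      simp [f] at this
      exact (mul_inv_eq_iff_eq_mul.mp this).symm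
    · intro hx
      ext v
      simp [f, ← hx v v.2]
  obtain ⟨e, he⟩ := hR.index E
  have hidx : e ≤ 1 := by
    by_contra hcon
    -- a nontrivial element of `E` central in `R`
    haveI : Nontrivial E := Finite.one_lt_card_iff_nontrivial.mp (by
      rw [hEc]; exact Nat.one_lt_pow (by norm_num) hp.out.one_lt)
    obtain ⟨z, hz, hz1⟩ : ∃ z : ↥E, (z : R) ∈ center R ∧ z ≠ 1 := by
      let _act : MulDistribMulAction (ConjAct R) E := ConjAct.Subgroup.conjMulDistribMulAction
      obtain ⟨z, hz, hz1⟩ := IsPGroup.exists_fixed_point_of_prime_dvd_card_of_fixed_point (p := p)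
        (G := ConjAct R) (α := ↥E) (hR.of_equiv ConjAct.toConjAct) (hEc ▸ dvd_pow_self p two_ne_zero)
        (a := 1) (fun g => by simp)
      refine ⟨z, mem_center_iff.mpr fun g => ?_, Ne.symm hz1⟩
      have := congrArg Subtype.val (hz (ConjAct.toConjAct g))
      simp only [ConjAct.Subgroup.val_conj_smul, ConjAct.smul_def, ConjAct.ofConjAct_toConjAct] at this
      exact mul_inv_eq_iff_eq_mul.mp this
    -- another element
    obtain ⟨w, hw⟩ : ∃ w : ↥E, w ∉ zpowers z := by
      by_contra hc
      push Not at hc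
      haveI : IsCyclic ↥E := ⟨⟨z, hc⟩⟩
      exact hEnc inferInstance
    -- the stabiliser of `w`
    haveI : Finite (ConjAct R) := inferInstanceAs (Finite R)
    let _act : MulDistribMulAction (ConjAct R) E := ConjAct.Subgroup.conjMulDistribMulAction
    have horb : (MulAction.orbit (ConjAct R) w).ncard ∣ p ^ 2 := by
      rw [← MulAction.index_stabilizer]
      obtain ⟨j, hj⟩ := (hR.of_equiv ConjAct.toConjAct).index (MulAction.stabilizer (ConjAct R) w)
      have hlt : (MulAction.stabilizer (ConjAct R) w).index ≤ p ^ 2 := by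
        rw [MulAction.index_stabilizer, ← hEc, ← Nat.card_coe_set_eq]
        exact Nat.card_le_card_of_injective Subtype.val Subtype.val_injective
      rw [hj] at hlt ⊢
      exact pow_dvd_pow p ((Nat.pow_le_pow_iff_right hp.out.one_lt).mp hlt)
    have hne : (MulAction.orbit (ConjAct R) w).ncard < p ^ 2 := by
      rw [← hEc, ← Set.ncard_univ]
      refine Set.ncard_lt_ncard ⟨Set.subset_univ _, fun hsub => hz1 ?_⟩
      obtain ⟨g, hg⟩ := hsub (Set.mem_univ (1 : ↥E))
      exfalso
      simp only at hg
      have : w = 1 := by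
        have h1 := congrArg (fun v : ↥E => g⁻¹ • v) hg
        simpa using h1
      exact hw (this ▸ one_mem _)
    obtain ⟨j, hj, hj'⟩ := (Nat.dvd_prime_pow hp.out).mp horb
    have hjle : j ≤ 1 := by
      by_contra hj2
      rw [hj', show j = 2 by omega] at hne
      exact lt_irrefl _ hne
    have hstab : (MulAction.stabilizer (ConjAct R) w).comap (ConjAct.toConjAct (G := R)).toMonoidHom ≤ E := by
      intro g hg
      have hgw : g * (w : R) * g⁻¹ = w := by
        have hg' : ConjAct.toConjAct g • w = w := hg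
        have := congrArg Subtype.val hg'
        simp only [ConjAct.Subgroup.val_conj_smul, ConjAct.smul_def, ConjAct.ofConjAct_toConjAct] at this
        exact this
      have hgz : g * (z : R) * g⁻¹ = z := by rw [mem_center_iff.mp hz g, mul_inv_cancel_right]
      rw [← hker, MonoidHom.mem_ker]
      -- the fixed subgroup contains `z` and `w`
      set F : Subgroup ↥E := (f g).toMonoidHom.eqLocus (MonoidHom.id ↥E) with hF
      have hzF : z ∈ F := Subtype.ext (by simpa [f] using hgz)
      have hwF : w ∈ F := Subtype.ext (by simpa [f] using hgw)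
      obtain ⟨i, hi, hi'⟩ := (Nat.dvd_prime_pow hp.out).mp (hEc ▸ F.card_subgroup_dvd_card)
      have h2 : p < Nat.card F := by
        have hzc : Nat.card (zpowers z) = p := by
          rw [Nat.card_zpowers]
          exact orderOf_eq_prime (Subtype.ext (by simpa using hE.2 z z.2)) hz1
        calc p = Nat.card (zpowers z) := hzc.symm
          _ < Nat.card F := by
            rcases (Subgroup.card_le_of_le (zpowers_le.mpr hzF)).lt_or_eq with hl | he'
            · exact hl
            · exact absurd ((Subgroup.eq_of_le_of_card_ge (zpowers_le.mpr hzF) he'.ge) ▸ hwF) hw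
      have hFtop : F = ⊤ := by
        refine Subgroup.eq_top_of_card_eq _ ?_
        rw [hi', hEc]
        have : 1 < i := (Nat.pow_lt_pow_iff_right hp.out.one_lt).mp (by rw [pow_one, ← hi']; exact h2)
        rw [show i = 2 by omega]
      ext v
      have : v ∈ F := hFtop ▸ mem_top v
      exact congrArg Subtype.val (this : (f g) v = v)
    have h1 := Subgroup.index_dvd_of_le hstab
    rw [Subgroup.index_comap_of_surjective _ (show Function.Surjective
      (ConjAct.toConjAct (G := R)).toMonoidHom from ConjAct.toConjAct.surjective),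
      MulAction.index_stabilizer, hj', he] at h1
    have := (Nat.pow_dvd_pow_iff_le_right hp.out.one_lt).mp h1
    omega
  have hcard := E.card_mul_index
  rw [hEc, he] at hcard
  interval_cases e
  · left; rw [← hcard, pow_zero, mul_one]
  · right
    refine ⟨by rw [← hcard]; ring, ?_⟩
    haveI : Nontrivial R := Finite.one_lt_card_iff_nontrivial.mp (by
      rw [← hcard, pow_one]
      exact one_lt_mul_of_le_of_lt (Nat.one_le_pow _ _ hp.out.pos) hp.out.one_lt)
    haveI : Nontrivial (center R) := hR.center_nontrivial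
    have hZE : center R ≤ E := fun x hx => hcent.le fun v _ => mem_center_iff.mp hx v
    obtain ⟨i, hi, hi'⟩ := (Nat.dvd_prime_pow hp.out).mp (hEc ▸ Subgroup.card_dvd_of_le hZE)
    have h1 := Finite.one_lt_card (α := center R)
    match i, hi with
    | 0, _ => rw [hi', pow_zero] at h1; omega
    | 1, _ => rw [hi', pow_one]
    | 2, _ =>
      exfalso
      have hEZ : center R = E := Subgroup.eq_of_le_of_card_ge hZE (by rw [hi', hEc])
      have : E = ⊤ := by
        rw [← hcent, centralizer_eq_top_iff_subset, ← hEZ]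
      rw [this, Subgroup.index_top] at he
      rw [pow_one] at he
      exact hp.out.ne_one he.symm

variable {G : Type*} [Group G] [Finite G]

/-- The order of a nonabelian simple group in the class is even. -/
theorem even_card [IsSimpleGroup G] (hna : ¬ IsMulCommutative G) (h : NCC G) : Even (Nat.card G) := by
  classical
  by_contra hev
  have hodd : Odd (Nat.card G) := Nat.not_even_iff_odd.mp hev
  haveI : Nontrivial G := IsSimpleGroup.toNontrivial
  set p := (Nat.card G).minFac with hpdef
  have hp : p.Prime := Nat.minFac_prime (Finite.one_lt_card.ne')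
  haveI : Fact p.Prime := ⟨hp⟩
  have hp2 : p ≠ 2 := fun e => hev (even_iff_two_dvd.mpr (e ▸ Nat.minFac_dvd _))
  let P : Sylow p G := default
  obtain ⟨Q, N, hN, hc⟩ : Cfsg.HasNormalPComplement p G := by
    refine Transfer.hasNormalPComplement_of_frobenius P fun Q hQP g hg hgp => ?_
    have hQp : IsPGroup p Q := P.2.to_le hQP
    -- prime order parts
    let φ : ↥(normalizer (Q : Set G)) →* MulAut ↥Q := Q.normalizerMonoidHom
    suffices hone : φ ⟨g, hg⟩ = 1 by
      have h' : (⟨g, hg⟩ : ↥(normalizer (Q : Set G))) ∈ φ.ker := hone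
      rwa [Subgroup.normalizerMonoidHom_ker, mem_subgroupOf] at h'
    by_contra hne
    obtain ⟨q, hq, hqd⟩ := Nat.exists_prime_and_dvd (n := orderOf (φ ⟨g, hg⟩))
      (fun e => hne (orderOf_eq_one_iff.mp e))
    have hqg : q ∣ orderOf g := by
      rw [← Subgroup.orderOf_mk g hg]
      exact hqd.trans (orderOf_map_dvd φ _)
    have hqp : q ≠ p := fun e => hp.ne_one (Nat.eq_one_of_dvd_coprimes hgp (e ▸ hqg) dvd_rfl)
    have hpq : p < q := lt_of_le_of_ne
      (Nat.minFac_le_of_dvd hq.two_le (hqg.trans (orderOf_dvd_natCard g))) (Ne.symm hqp)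
    haveI : Fact q.Prime := ⟨hq⟩
    obtain ⟨ψ, hψ⟩ := exists_prime_orderOf_dvd_card' q
      (hqd.trans (orderOf_dvd_natCard _) : q ∣ Nat.card (MulAut ↥Q))
    -- choose the power of the given automorphism
    obtain ⟨c, hc⟩ := hqd
    set α := φ ⟨g, hg⟩ ^ c with hα
    have hαo : orderOf α = q := by
      rw [hα, orderOf_pow, hc, Nat.gcd_eq_right (Dvd.intro_left q rfl), Nat.mul_div_cancel _ ?_]
      exact Nat.pos_of_ne_zero fun e => (orderOf_pos (φ ⟨g, hg⟩)).ne' (by rw [hc, e, mul_zero])
    by_cases hQc : IsCyclic ↥Q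
    · haveI := hQc
      obtain ⟨k, hk⟩ := IsPGroup.iff_card.mp hQp
      have hd := hαo ▸ orderOf_dvd_natCard α
      rw [IsCyclic.card_mulAut, hk] at hd
      rcases k with _ | k
      · rw [pow_zero, Nat.totient_one] at hd
        exact hq.ne_one (Nat.dvd_one.mp hd)
      · rw [Nat.totient_prime_pow_succ hp] at hd
        rcases (Nat.Prime.dvd_mul hq).mp hd with h1 | h1
        · exact hqp ((Nat.prime_dvd_prime_iff_eq hq hp).mp (hq.dvd_of_dvd_pow h1))
        · have := Nat.le_of_dvd (by have := hp.two_le; omega) h1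
          omega
    -- fixed points of an automorphism of order `q`
    have hαq : IsPGroup q ↥(zpowers α) := IsPGroup.of_card (n := 1) (by rw [Nat.card_zpowers, hαo, pow_one])
    have hfix : ∀ (H : Subgroup ↥Q) (hH : ∀ v ∈ H, ∀ β ∈ zpowers α, β v ∈ H), ∀ j ≤ 2, Nat.card H = p ^ j →
        ∀ F : Subgroup ↥Q, F ≤ H → (∀ v, v ∈ F ↔ v ∈ H ∧ α v = v) → (j = 2 → F ≠ ⊥) → F = H := by
      intro H hH j hj hHc F hFH hF hF1
      letI : MulAction ↥(zpowers α) ↥H :=
        { smul := fun β v => ⟨(β : MulAut ↥Q) v, hH v v.2 β β.2⟩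
          one_smul := fun v => rfl
          mul_smul := fun β γ v => rfl }
      have hm := hαq.card_modEq_card_fixedPoints ↥H
      have hFc : Nat.card (MulAction.fixedPoints ↥(zpowers α) ↥H) = Nat.card F := by
        refine Nat.card_congr
          { toFun := fun v => ⟨v.1.1, (hF _).mpr ⟨v.1.2, congrArg Subtype.val (v.2 ⟨α, mem_zpowers α⟩)⟩⟩
            invFun := fun v => ⟨⟨v.1, ((hF _).mp v.2).1⟩, fun β => Subtype.ext ?_⟩
            left_inv := fun v => rfl
            right_inv := fun v => rfl }
        obtain ⟨β, hβ⟩ := β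
        show β v.1 = v.1
        have hs : zpowers α ≤ MulAction.stabilizer (MulAut ↥Q) v.1 := zpowers_le.mpr ((hF _).mp v.2).2
        exact hs hβ
      rw [hFc, hHc] at hm
      obtain ⟨i, hi, hi'⟩ := (Nat.dvd_prime_pow hp).mp (hHc ▸ Subgroup.card_dvd_of_le hFH)
      rw [hi'] at hm
      refine Subgroup.eq_of_le_of_card_ge hFH (le_of_eq ?_)
      rw [hHc, hi']
      by_contra hne'
      have hij : i < j := lt_of_le_of_ne hi fun e => hne' (by rw [e])
      have hd : q ∣ p ^ j - p ^ i := (Nat.modEq_iff_dvd' (Nat.pow_le_pow_right hp.pos hi)).mp hm.symm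
      have hd1 : q ∣ p - 1 := by
        match j, hj, i, hij with
        | 1, _, 0, _ => simpa using hd
        | 2, _, 0, _ => exact absurd (Subgroup.card_eq_one.mp (by rw [hi', pow_zero])) (hF1 rfl)
        | 2, _, 1, _ =>
          rw [pow_one, sq, ← Nat.sub_one_mul] at hd
          exact (hq.dvd_mul.mp hd).resolve_right fun h1 => hqp ((Nat.prime_dvd_prime_iff_eq hq hp).mp h1)
      have := Nat.le_of_dvd (by have := hp.two_le; omega) hd1
      omega
    let Fx : Subgroup ↥Q := α.toMonoidHom.eqLocus (MonoidHom.id ↥Q)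
    rcases small_pgroup hp2 hQp (h.of_subgroup Q) hQc with h2 | ⟨h3, hz⟩
    · by_cases hFb : Fx = ⊥
      · -- fixed-point-free on a group of order `p ^ 2`
        letI : MulAction ↥(zpowers α) ↥Q :=
          { smul := fun β v => (β : MulAut ↥Q) v, one_smul := fun v => rfl, mul_smul := fun β γ v => rfl }
        have hm := hαq.card_modEq_card_fixedPoints ↥Q
        have h1 : Nat.card (MulAction.fixedPoints ↥(zpowers α) ↥Q) = 1 := by
          rw [Nat.card_eq_one_iff_unique]
          refine ⟨⟨fun u v => Subtype.ext ?_⟩, ⟨⟨1, fun β => map_one (β : MulAut ↥Q)⟩⟩⟩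
          have hu : u.1 ∈ Fx := u.2 ⟨α, mem_zpowers α⟩
          have hv : v.1 ∈ Fx := v.2 ⟨α, mem_zpowers α⟩
          rw [hFb, Subgroup.mem_bot] at hu hv
          rw [hu, hv]
        rw [h1, h2] at hm
        have hd := (Nat.modEq_iff_dvd' (Nat.one_le_pow _ _ hp.pos)).mp hm.symm
        rw [show p ^ 2 - 1 = (p + 1) * (p - 1) by rw [← Nat.sq_sub_sq, one_pow]] at hd
        rcases hq.dvd_mul.mp hd with h' | h'
        · have := Nat.le_of_dvd (by omega) h'
          have he : q = p + 1 := by omega
          have hq2 : Odd q := hodd.of_dvd_nat (hqg.trans (orderOf_dvd_natCard g))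
          have hpo : Odd p := hp.odd_of_ne_two hp2
          rw [he, Nat.odd_add_one] at hq2
          exact hq2 hpo
        · have := Nat.le_of_dvd (by have := hp.two_le; omega) h'
          omega
      · have hFtop := hfix ⊤ (fun _ _ _ _ => mem_top _) 2 le_rfl (by rw [Subgroup.card_top, h2]) Fx le_top
          (fun v => ⟨fun hv => ⟨mem_top v, hv⟩, fun hv => hv.2⟩) fun _ => hFb
        have hq1 : α = 1 := by
          ext v
          exact congrArg Subtype.val ((hFtop.symm ▸ mem_top v : v ∈ Fx) : α v = v)
        rw [hq1, orderOf_one] at hαo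
        exact hq.ne_one hαo.symm
    · -- the centre is fixed
      set Z := center ↥Q
      have hZfix : Fx ⊓ Z = Z := hfix Z (fun v hv β _ => by
          rw [mem_center_iff] at hv ⊢
          intro u
          obtain ⟨u', rfl⟩ := (β : MulAut ↥Q).surjective u
          rw [← map_mul, hv u', map_mul]) 1 (by norm_num) (by rw [hz, pow_one]) (Fx ⊓ Z) inf_le_right
        (fun v => ⟨fun hv => ⟨hv.2, hv.1⟩, fun hv => ⟨hv.2, hv.1⟩⟩) (fun h' => absurd h' (by norm_num))
      letI : MulAction ↥(zpowers α) ↥Q :=
        { smul := fun β v => (β : MulAut ↥Q) v, one_smul := fun v => rfl, mul_smul := fun β γ v => rfl }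
      have hm := hαq.card_modEq_card_fixedPoints ↥Q
      have hFc : Nat.card (MulAction.fixedPoints ↥(zpowers α) ↥Q) = Nat.card Fx :=
        Nat.card_congr
          { toFun := fun v => ⟨v.1, v.2 ⟨α, mem_zpowers α⟩⟩
            invFun := fun v => ⟨v.1, fun β => by
              have hs : zpowers α ≤ MulAction.stabilizer (MulAut ↥Q) v.1 := zpowers_le.mpr v.2
              exact hs β.2⟩
            left_inv := fun v => rfl
            right_inv := fun v => rfl }
      rw [hFc, h3] at hm
      obtain ⟨i, hi, hi'⟩ := (Nat.dvd_prime_pow hp).mp (h3 ▸ Fx.card_subgroup_dvd_card)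
      rw [hi'] at hm
      have hd := (Nat.modEq_iff_dvd' (Nat.pow_le_pow_right hp.pos hi)).mp hm.symm
      have hi1 : 1 ≤ i := (Nat.pow_le_pow_iff_right hp.one_lt).mp (by
        rw [pow_one, ← hi']
        calc p = Nat.card Z := hz.symm
          _ = Nat.card (Fx ⊓ Z : Subgroup ↥Q) := by rw [hZfix]
          _ ≤ _ := Subgroup.card_le_of_le inf_le_left)
      interval_cases i
      · rw [pow_one, show p ^ 3 - p = p * ((p + 1) * (p - 1)) by
          rw [← Nat.sq_sub_sq, one_pow, Nat.mul_sub, mul_one]; ring_nf] at hd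
        rcases hq.dvd_mul.mp hd with h' | h'
        · exact hqp ((Nat.prime_dvd_prime_iff_eq hq hp).mp h')
        rcases hq.dvd_mul.mp h' with h' | h'
        · have := Nat.le_of_dvd (by omega) h'
          have he : q = p + 1 := by omega
          have hq2 : Odd q := hodd.of_dvd_nat (hqg.trans (orderOf_dvd_natCard g))
          rw [he, Nat.odd_add_one] at hq2
          exact hq2 (hp.odd_of_ne_two hp2)
        · have := Nat.le_of_dvd (by have := hp.two_le; omega) h'
          omega
      · rw [show p ^ 3 - p ^ 2 = p ^ 2 * (p - 1) by rw [Nat.mul_sub, mul_one]; ring_nf] at hd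
        rcases hq.dvd_mul.mp hd with h' | h'
        · exact hqp ((Nat.prime_dvd_prime_iff_eq hq hp).mp (hq.dvd_of_dvd_pow h'))
        · have := Nat.le_of_dvd (by have := hp.two_le; omega) h'
          omega
      · have hq1 : α = 1 := by
          have hFtop : Fx = ⊤ := Subgroup.eq_top_of_card_eq _ (by rw [hi', h3])
          ext v
          exact congrArg Subtype.val ((hFtop.symm ▸ mem_top v : v ∈ Fx) : α v = v)
        rw [hq1, orderOf_one] at hαo
        exact hq.ne_one hαo.symm
  have hQcard : Nat.card Q * Nat.card N = Nat.card G := by rw [mul_comm]; exact hc.card_mul_card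
  rcases hN.eq_bot_or_eq_top with e | e
  · rw [e, Subgroup.card_bot, mul_one] at hQcard
    have hGp : IsPGroup p G := by
      obtain ⟨k, hk⟩ := IsPGroup.iff_card.mp Q.2
      exact IsPGroup.of_card (n := k) (hQcard.symm.trans hk)
    haveI : Nontrivial (center G) := hGp.center_nontrivial
    rcases (inferInstance : (center G).Normal).eq_bot_or_eq_top with e' | e'
    · exact absurd e' ((Subgroup.nontrivial_iff_ne_bot _).mp inferInstance)
    · exact hna ⟨⟨fun a b => (mem_center_iff.mp (e' ▸ mem_top a) b).symm⟩⟩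
  · rw [e, Subgroup.card_top] at hQcard
    have h1 : Nat.card Q = 1 := Nat.eq_of_mul_eq_mul_right Nat.card_pos (hQcard.trans (one_mul _).symm)
    have := Q.dvd_card_of_dvd_card (Nat.minFac_dvd (Nat.card G))
    change p ∣ Nat.card (Q : Subgroup G) at this
    rw [h1] at this
    exact hp.ne_one (Nat.dvd_one.mp this)

end Cfsg.Agent.Lib.InvChar.SelfCentNoncyclic
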