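import Cfsg.Agent.Lib.InvChar.SelfCentNoncyclic.Dihedral
import Cfsg.Agent.Lib.InvChar.SelfCentNoncyclic.Odd
import Cfsg.Agent.Lib.PSLSpec.Index
import Cfsg.Agent.Lib.Geometry.Dickson.MaxExist
import Cfsg.Agent.Lib.PGroups.HalfTransitive
import Cfsg.Agent.Lib.Cores.PCore
import Cfsg.Agent.Lib.Geometry.Dickson.PGLAux
import Cfsg.Agent.S0508
import Cfsg.Agent.S2507

/-!
The simple groups in which every noncyclic subgroup contains its centraliser.
-/

set_option autoImplicit false
set_option linter.unusedSectionVars false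
set_option linter.style.haveILetI false

namespace Cfsg.Agent.Lib.InvChar.SelfCentNoncyclic

open Subgroup Cfsg.Agent.Lib.Geometry.Dickson
open Cfsg.Agent.Lib.SL2Trace (tr toPSL toPSL_surjective toPSL_eq_one mem_center_iff)

theorem forward {G : Type*} [Group G] [Finite G] [IsSimpleGroup G] (hna : ¬ IsMulCommutative G)
    (h : NCC G) : ∃ (F : Type) (_ : Field F) (_ : Fintype F),
      (Fintype.card F = 4 ∨ Fintype.card F = 9 ∨ ((Fintype.card F).Prime ∧ ∃ k : ℕ, Fintype.card F = 2 ^ k + 1 ∨ Fintype.card F = 2 ^ k - 1)) ∧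
      Nonempty (G ≃* Matrix.ProjectiveSpecialLinearGroup (Fin 2) F) := by
  classical
  haveI : Fact (Nat.Prime 2) := ⟨Nat.prime_two⟩
  obtain ⟨S, m, t, hm, hS, ht, htS, hC⟩ := sylow_dihedral hna (even_card hna h) h
  obtain ⟨k, hk⟩ := IsPGroup.iff_card.mp S.2
  have hCk : Nat.card (centralizer ({t} : Set G)) = 2 ^ k := by rw [hC]; exact hk
  have hcore : Cfsg.oddCore (centralizer ({t} : Set G)) = ⊥ := by
    refine Subgroup.card_eq_one.mp (Nat.Coprime.eq_one_of_dvd ?_ (card_subgroup_dvd_card _))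
    rw [hCk]
    exact (Nat.coprime_two_right.mpr (Lib.Cores.odd_card_oddCore _)).pow_right k
  set O := (Cfsg.oddCore (centralizer ({t} : Set G))).map (centralizer ({t} : Set G)).subtype with hO
  have hO1 : O = ⊥ := by rw [hO, hcore, Subgroup.map_bot]
  have htZ : ∀ s ∈ (S : Subgroup G), s * t = t * s := fun s hs =>
    mem_centralizer_singleton_iff.mp (hC.symm ▸ hs)
  obtain ⟨F, hFf, hFt, hodd, ⟨φ⟩⟩ := Cfsg.Agent.S0508.result S m hm hS t ht htS htZ O hO
    (fun he => absurd hO1 he)
    (fun s _ hs => absurd (by rw [hO1]; intro v hv; rw [Subgroup.coe_bot, Set.mem_singleton_iff] at hv; simp [hv]) hs)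
    (fun Y hY hY1 => absurd (le_bot_iff.mp (hO1 ▸ hY)) hY1)
  refine ⟨F, hFf, hFt, ?_, ⟨φ⟩⟩
  have hodd' : Fintype.card F % 2 = 1 := Nat.odd_iff.mp hodd
  obtain ⟨m', hm2, hm0, hq, -, ⟨ψ⟩⟩ := invol_data hodd' (x := φ t) (by rw [MulEquiv.orderOf_eq, ht])
  have hmap : centralizer ({φ t} : Set (Matrix.ProjectiveSpecialLinearGroup (Fin 2) F)) =
      (centralizer ({t} : Set G)).map φ.toMonoidHom := by
    ext x
    rw [Subgroup.mem_map_equiv, mem_centralizer_singleton_iff, mem_centralizer_singleton_iff,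
      ← φ.injective.eq_iff, map_mul, map_mul, φ.apply_symm_apply]
  have h2m : 2 * m' = 2 ^ k := by
    rw [← DihedralGroup.nat_card, ← Nat.card_congr ψ.toEquiv, hmap,
      card_map_of_injective φ.injective, hCk]
  obtain ⟨d', hp, hd⟩ := FiniteField.card F (ringChar F)
  obtain ⟨d, hd0, hdd⟩ : ∃ d : ℕ, 0 < d ∧ Fintype.card F = ringChar F ^ d := ⟨_, d'.pos, hd⟩
  clear hd
  haveI : Fact (ringChar F).Prime := ⟨hp⟩
  have hpo : Odd (ringChar F) := (Nat.odd_pow_iff hd0.ne').mp (hdd ▸ hodd)
  rcases hq with hq | hq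
  · rcases Lib.PGroups.HalfTransitive.pow_eq_two_pow_add hpo hd0 (m := k) (by rw [← hdd]; omega) with h1 | ⟨h1, h1'⟩
    · exact Or.inr (Or.inr ⟨by rw [hdd, h1, pow_one]; exact hp, k, Or.inl (by omega)⟩)
    · exact Or.inr (Or.inl (by rw [hdd, h1, h1']; norm_num))
  · have h1 := Lib.PGroups.HalfTransitive.pow_eq_two_pow_sub hpo hd0 (m := k) (by rw [← hdd]; omega)
    exact Or.inr (Or.inr ⟨by rw [hdd, h1, pow_one]; exact hp, k, Or.inr (by omega)⟩)

/-- A group of order `p` or `p ^ 2` has no proper noncyclic subgroup. -/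
theorem eq_of_noncyclic_le {G : Type*} [Group G] [Finite G] {C H : Subgroup G} {p j : ℕ} (hp : p.Prime)
    (hj : j ≤ 2) (hC : Nat.card C = p ^ j) (hH : H ≤ C) (hnc : ¬ IsCyclic ↥H) : H = C := by
  haveI : Fact p.Prime := ⟨hp⟩
  obtain ⟨i, hi, hi'⟩ := (Nat.dvd_prime_pow hp).mp (hC ▸ card_dvd_of_le hH)
  refine eq_of_le_of_card_ge hH ?_
  rw [hC, hi']
  refine Nat.pow_le_pow_right hp.pos ?_
  by_contra hlt
  match i, hi' with
  | 0, h0 =>
    haveI : Subsingleton ↥H := (Nat.card_eq_one_iff_unique.mp (by rwa [pow_zero] at h0)).1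
    exact hnc isCyclic_of_subsingleton
  | 1, h1 => exact hnc (isCyclic_of_prime_card (p := p) (by rw [h1, pow_one]))
  | i + 2, _ => omega

theorem zmod_half {m : ℕ} [NeZero m] {x y : ZMod m} (hx : x + x = 0) (hx0 : x ≠ 0) (hy : y + y = 0)
    (hy0 : y ≠ 0) : x = y := by
  have key : ∀ z : ZMod m, z + z = 0 → z ≠ 0 → 2 * z.val = m := by
    intro z hz hz0
    have h1 : m ∣ 2 * z.val := by
      rw [← ZMod.natCast_eq_zero_iff]
      push_cast
      rw [ZMod.natCast_zmod_val, two_mul]
      exact hz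
    have h2 : 0 < z.val := Nat.pos_of_ne_zero fun e => hz0 ((ZMod.val_eq_zero z).mp e)
    have h3 := z.val_lt
    obtain ⟨c, hc⟩ := h1
    have : c < 2 := by
      by_contra hc2
      have := Nat.mul_le_mul_left m (not_lt.mp hc2)
      omega
    interval_cases c <;> omega
  apply ZMod.val_injective
  have := key x hx hx0
  have := key y hy hy0
  omega

/-- A noncyclic subgroup of a dihedral `2`-group contains the central involution. -/
theorem mem_of_noncyclic_dihedral {j : ℕ} (hj : 2 ≤ j) {z : DihedralGroup (2 ^ j)} (hz : orderOf z = 2)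
    (hzc : ∀ u, u * z = z * u) {H : Subgroup (DihedralGroup (2 ^ j))} (hH : ¬ IsCyclic ↥H) : z ∈ H := by
  have h4 : 4 ≤ 2 ^ j := le_trans (by norm_num) (Nat.pow_le_pow_right two_pos hj)
  haveI : NeZero (2 ^ j) := ⟨by omega⟩
  obtain ⟨hz2, hz1⟩ := orderOf_eq_two_iff'.mp hz
  match z, hz2, hz1, hzc with
  | .sr a, _, _, hzc =>
    exfalso
    have := hzc (.r 1)
    rw [DihedralGroup.r_mul_sr, DihedralGroup.sr_mul_r, DihedralGroup.sr.injEq] at this
    have h2 : ((2 : ℕ) : ZMod (2 ^ j)) = 0 := by push_cast; linear_combination -this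
    rw [ZMod.natCast_eq_zero_iff] at h2
    have := Nat.le_of_dvd two_pos h2
    omega
  | .r x, hz2, hz1, _ =>
    rw [DihedralGroup.r_mul_r, DihedralGroup.one_def, DihedralGroup.r.injEq] at hz2
    have hx0 : x ≠ 0 := fun e => hz1 (by rw [e, ← DihedralGroup.one_def])
    by_cases hrot : ∃ i, DihedralGroup.r i ∈ H ∧ i ≠ 0
    · obtain ⟨i, hiH, hi0⟩ := hrot
      haveI : Fact (Nat.Prime 2) := ⟨Nat.prime_two⟩
      have hd : orderOf (DihedralGroup.r i : DihedralGroup (2 ^ j)) ∣ 2 ^ j := by
        apply orderOf_dvd_of_pow_eq_one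
        simp [DihedralGroup.one_def, -DihedralGroup.r_zero]
      obtain ⟨s, -, hs⟩ := (Nat.dvd_prime_pow Nat.prime_two).mp hd
      obtain ⟨s', rfl⟩ : ∃ s', s = s' + 1 := by
        rcases s with _ | s
        · rw [pow_zero, orderOf_eq_one_iff, DihedralGroup.one_def, DihedralGroup.r.injEq] at hs
          exact absurd hs hi0
        · exact ⟨s, rfl⟩
      have hu : orderOf ((DihedralGroup.r i : DihedralGroup (2 ^ j)) ^ 2 ^ s') = 2 := by
        rw [orderOf_pow, hs, Nat.gcd_eq_right (pow_dvd_pow 2 (Nat.le_succ s')), pow_succ,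
          Nat.mul_div_cancel_left _ (by positivity)]
      obtain ⟨hu2, hu1⟩ := orderOf_eq_two_iff'.mp hu
      rw [DihedralGroup.r_pow] at hu2 hu1
      rw [DihedralGroup.r_mul_r, DihedralGroup.one_def, DihedralGroup.r.injEq] at hu2
      have hmem := H.pow_mem hiH (2 ^ s')
      rw [DihedralGroup.r_pow] at hmem
      rwa [zmod_half hz2 hx0 hu2 (fun e => hu1 (by rw [e, ← DihedralGroup.one_def]))]
    · exfalso
      push Not at hrot
      refine hH ?_
      by_cases hs : ∃ a, DihedralGroup.sr a ∈ H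
      · obtain ⟨a, ha⟩ := hs
        have hle : H ≤ zpowers (DihedralGroup.sr a) := by
          rintro (i | b) hu
          · rw [hrot i hu, ← DihedralGroup.one_def]; exact one_mem _
          · have := hrot (b - a) (by simpa using H.mul_mem ha hu)
            rw [sub_eq_zero.mp this]; exact mem_zpowers _
        exact isCyclic_of_le hle
      · push Not at hs
        have hle : H ≤ ⊥ := by
          rintro (i | b) hu
          · rw [hrot i hu, ← DihedralGroup.one_def]; exact one_mem _
          · exact absurd hu (hs b)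
        exact isCyclic_of_le hle

/-- The criterion in terms of the centraliser of each nontrivial element. -/
theorem ncc_of_centralizers {G : Type*} [Group G]
    (h : ∀ c : G, c ≠ 1 → ∀ H : Subgroup G, H ≤ centralizer ({c} : Set G) → ¬ IsCyclic ↥H → c ∈ H) :
    NCC G := by
  intro H hH x hx
  by_cases hx1 : x = 1
  · rw [hx1]; exact one_mem _
  · exact h x hx1 H (fun v hv => mem_centralizer_singleton_iff.mpr (hx v hv)) hH

section PSL
variable {F : Type*} [Field F] [Fintype F]

theorem ncc_PSL2_four (h4 : Fintype.card F = 4) (hs : IsSimpleGroup (Matrix.ProjectiveSpecialLinearGroup (Fin 2) F))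
    (hc : ¬ IsMulCommutative (Matrix.ProjectiveSpecialLinearGroup (Fin 2) F)) :
    NCC (Matrix.ProjectiveSpecialLinearGroup (Fin 2) F) := by
  classical
  refine ncc_of_centralizers fun c hc1 H hH hnc => ?_
  have hcard : Nat.card (Matrix.ProjectiveSpecialLinearGroup (Fin 2) F) = 60 := by
    have := Cfsg.Agent.Lib.Geometry.Dickson.card_PSL2 (F := F)
    rw [h4, show Nat.gcd 2 (4 - 1) = 1 from rfl] at this
    omega
  have hidx := Set.ext_iff.mp (Cfsg.Agent.S2507.result (F := F) (by rw [h4]; norm_num) (by rw [h4]))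
    (centralizer ({c} : Set (Matrix.ProjectiveSpecialLinearGroup (Fin 2) F))).index
  have hidx' := hidx.mp ⟨c, rfl⟩
  have hmul := (centralizer ({c} : Set (Matrix.ProjectiveSpecialLinearGroup (Fin 2) F))).card_mul_index
  rw [hcard] at hmul
  simp only [h4, Set.mem_insert_iff, Set.mem_singleton_iff] at hidx'
  replace hidx' : (centralizer ({c} : Set (Matrix.ProjectiveSpecialLinearGroup (Fin 2) F))).index = 1 ∨
      (centralizer ({c} : Set (Matrix.ProjectiveSpecialLinearGroup (Fin 2) F))).index = 12 ∨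
      (centralizer ({c} : Set (Matrix.ProjectiveSpecialLinearGroup (Fin 2) F))).index = 15 ∨
      (centralizer ({c} : Set (Matrix.ProjectiveSpecialLinearGroup (Fin 2) F))).index = 20 := by omega
  suffices heq : H = centralizer ({c} : Set (Matrix.ProjectiveSpecialLinearGroup (Fin 2) F)) by
    rw [heq]; exact mem_centralizer_singleton_iff.mpr rfl
  rcases hidx' with e | e | e | e <;> rw [e] at hmul
  · exfalso
    rcases (inferInstance : (center (Matrix.ProjectiveSpecialLinearGroup (Fin 2) F)).Normal).eq_bot_or_eq_top with e' | e'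
    · have hcen : c ∈ center (Matrix.ProjectiveSpecialLinearGroup (Fin 2) F) := Subgroup.mem_center_iff.mpr fun g =>
        mem_centralizer_singleton_iff.mp (index_eq_one.mp e ▸ mem_top g)
      exact hc1 (by rwa [e', mem_bot] at hcen)
    · exact hc ⟨⟨fun a b => (Subgroup.mem_center_iff.mp (e' ▸ mem_top a) b).symm⟩⟩
  · exact eq_of_noncyclic_le (p := 5) (j := 1) Nat.prime_five (by norm_num) (by omega) hH hnc
  · exact eq_of_noncyclic_le (p := 2) (j := 2) Nat.prime_two le_rfl (by omega) hH hnc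
  · exact eq_of_noncyclic_le (p := 3) (j := 1) Nat.prime_three (by norm_num) (by omega) hH hnc

theorem ncc_PSL2_odd (hodd : Fintype.card F % 2 = 1) (h4 : 4 ≤ Fintype.card F)
    (hq : Fintype.card F = 9 ∨ ((Fintype.card F).Prime ∧ ∃ k : ℕ, Fintype.card F = 2 ^ k + 1 ∨ Fintype.card F = 2 ^ k - 1)) :
    NCC (Matrix.ProjectiveSpecialLinearGroup (Fin 2) F) := by
  classical
  have h20 := two_ne_of_odd (F := F) hodd
  refine ncc_of_centralizers fun c hc1 H hH hnc => ?_
  obtain ⟨X, rfl⟩ := toPSL_surjective c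
  have hX : X ∉ center (Matrix.SpecialLinearGroup (Fin 2) F) := fun h => hc1 (toPSL_eq_one.mpr (mem_center_iff.mp h))
  by_cases ht : tr X ^ 2 = 4
  · -- unipotent
    have ht0 : tr X ≠ 0 := fun e => h20 (by
      rw [e] at ht; exact mul_self_eq_zero.mp (by linear_combination -ht))
    suffices heq : H = centralizer ({toPSL X} : Set (Matrix.ProjectiveSpecialLinearGroup (Fin 2) F)) by
      rw [heq]; exact mem_centralizer_singleton_iff.mpr rfl
    have hidx := Lib.PSLSpec.index_centralizer_of_tr (Or.inl ht0)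
    have hcell := Lib.PSLSpec.card_mul_index_cell X
    rw [Lib.PSLSpec.card_cell_unipotent hX ht, Lib.PSLSpec.card_sqrt_one_odd h20, ← hidx,
      ← card_PSL2_odd hodd,
      ← (centralizer ({toPSL X} : Set (Matrix.ProjectiveSpecialLinearGroup (Fin 2) F))).card_mul_index] at hcell
    set i := (centralizer ({toPSL X} : Set (Matrix.ProjectiveSpecialLinearGroup (Fin 2) F))).index with hi
    have hi0 : 0 < i := Nat.pos_of_ne_zero Subgroup.index_ne_zero_of_finite
    have hCq : Nat.card (centralizer ({toPSL X} : Set (Matrix.ProjectiveSpecialLinearGroup (Fin 2) F))) =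
        Fintype.card F := Nat.eq_of_mul_eq_mul_right (show 0 < 2 * i by omega) (by linarith)
    rcases hq with h9 | ⟨hp, -⟩
    · exact eq_of_noncyclic_le (p := 3) (j := 2) Nat.prime_three le_rfl (by rw [hCq, h9]; norm_num) hH hnc
    · exact eq_of_noncyclic_le (p := Fintype.card F) (j := 1) hp (by norm_num) (by rw [hCq, pow_one]) hH hnc
  by_cases h0 : tr X = 0
  · -- involution
    have hord : orderOf (toPSL X) = 2 := by
      refine orderOf_eq_two_iff'.mpr ⟨?_, hc1⟩
      rw [← map_mul, toPSL_eq_one]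
      refine Or.inr (Subtype.ext ?_)
      have := Cfsg.Agent.Lib.SL2Trace.sq_eq X
      rw [h0, zero_smul, zero_sub] at this
      simpa using this
    obtain ⟨m, hm2, hm0, hmq, -, ⟨ψ⟩⟩ := invol_data hodd hord
    obtain ⟨j, hj⟩ : ∃ j, m = 2 ^ j := by
      obtain ⟨r, rfl⟩ := hm2
      rcases hq with h9 | ⟨-, k, hk⟩
      · exact ⟨2, by omega⟩
      · rcases k with _ | _ | k
        · simp at hk; omega
        · simp at hk; omega
        · have e : 2 ^ (k + 2) = 4 * 2 ^ k := by ring
          exact ⟨k + 1, by rw [pow_succ]; omega⟩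
    subst hj
    rcases Nat.lt_or_ge j 2 with hj2 | hj2
    · obtain rfl : j = 1 := by
        rcases j with _ | j
        · omega
        · omega
      suffices heq : H = centralizer ({toPSL X} : Set (Matrix.ProjectiveSpecialLinearGroup (Fin 2) F)) by
        rw [heq]; exact mem_centralizer_singleton_iff.mpr rfl
      exact eq_of_noncyclic_le (p := 2) (j := 2) Nat.prime_two le_rfl
        (by rw [Nat.card_congr ψ.toEquiv, DihedralGroup.nat_card]; norm_num) hH hnc
    set C := centralizer ({toPSL X} : Set (Matrix.ProjectiveSpecialLinearGroup (Fin 2) F))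
    set cC : ↥C := ⟨toPSL X, mem_centralizer_singleton_iff.mpr rfl⟩
    have key := mem_of_noncyclic_dihedral hj2 (z := ψ cC) (by rw [MulEquiv.orderOf_eq, Subgroup.orderOf_mk, hord])
      (fun u => by
        obtain ⟨v, rfl⟩ := ψ.surjective u
        rw [← map_mul, ← map_mul, show v * cC = cC * v from Subtype.ext (mem_centralizer_singleton_iff.mp v.2)])
      (H := (H.subgroupOf C).map ψ.toMonoidHom) (fun hc => hnc (by
        exact (((H.subgroupOf C).equivMapOfInjective ψ.toMonoidHom ψ.injective).symm.trans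
          (subgroupOfEquivOfLe hH)).isCyclic.mp hc))
    obtain ⟨v, hv, hve⟩ := key
    have hv' : v = cC := ψ.injective hve
    rw [hv'] at hv
    exact hv
  · -- regular
    exfalso
    haveI := torus_isCyclic (⊤ : Subgroup (Matrix.SpecialLinearGroup (Fin 2) F)) hX ht
    haveI : IsCyclic ↥((cell ⊤ X).map (toPSL (F := F))) :=
      isCyclic_of_surjective _ ((toPSL (F := F)).subgroupMap_surjective (cell ⊤ X))
    refine hnc (isCyclic_of_le (H := H) (H' := (cell ⊤ X).map (toPSL (F := F))) fun g hg => ?_)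
    obtain ⟨Y, rfl⟩ := toPSL_surjective g
    refine mem_map.mpr ⟨Y, Lib.PSLSpec.mem_cell_iff.mpr ?_, rfl⟩
    have hY := hH hg
    rcases Lib.PSLSpec.mem_comap_centralizer.mp hY with e | e
    · exact e.symm
    · exfalso
      have h1 := Cfsg.Agent.Lib.SL2Trace.tr_conj X Y⁻¹
      rw [inv_inv, Lib.PSLSpec.neg_eq_conj e, Cfsg.Agent.Lib.SL2Trace.tr_neg] at h1
      have h3 : (2 : F) * tr X = 0 := by linear_combination -h1
      exact h0 ((mul_eq_zero.mp h3).resolve_left h20)

end PSL

theorem backward {G : Type*} [Group G] [Finite G] [IsSimpleGroup G] (hna : ¬ IsMulCommutative G)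
    {F : Type} [Field F] [Fintype F]
    (hq : Fintype.card F = 4 ∨ Fintype.card F = 9 ∨ ((Fintype.card F).Prime ∧ ∃ k : ℕ, Fintype.card F = 2 ^ k + 1 ∨ Fintype.card F = 2 ^ k - 1))
    (φ : G ≃* Matrix.ProjectiveSpecialLinearGroup (Fin 2) F) : NCC G := by
  classical
  have h4 : 4 ≤ Fintype.card F := by
    by_contra hlt
    have h := Cfsg.Agent.Lib.Geometry.Dickson.card_PSL2 (F := F)
    rw [← Nat.card_congr φ.toEquiv] at h
    have h1 := Fintype.one_lt_card (α := F)
    have hsolv : Group.IsSolvable G := by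
      interval_cases hF : Fintype.card F
      · exact Lib.Characters.isSolvable_of_card_eq_pow_mul_pow (p := 2) (q := 3) (a := 1) (b := 1)
          Nat.prime_two Nat.prime_three (by norm_num at h; omega)
      · exact Lib.Characters.isSolvable_of_card_eq_pow_mul_pow (p := 2) (q := 3) (a := 2) (b := 1)
          Nat.prime_two Nat.prime_three (by norm_num at h; omega)
    exact hna ⟨⟨IsSimpleGroup.comm_iff_isSolvable.mpr hsolv⟩⟩
  refine NCC.of_equiv φ.symm ?_
  rcases hq with h | h
  · exact ncc_PSL2_four h (PGLMax.isSimple_PSL2 h4) fun hc => hna ⟨⟨fun a b => φ.injective (by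
      rw [map_mul, map_mul]; exact hc.is_comm.comm _ _)⟩⟩
  · refine ncc_PSL2_odd ?_ h4 h
    rcases h with h | ⟨hp, -⟩
    · omega
    · exact Nat.odd_iff.mp (hp.odd_of_ne_two (by omega))

end Cfsg.Agent.Lib.InvChar.SelfCentNoncyclic
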